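import Groth.Agent.L21.Nodal.NodeRing
import Mathlib.RingTheory.Flat.EquationalCriterion
import Mathlib.RingTheory.Flat.FaithfullyFlat.Algebra

/-!
At an ordinary double point two ideals annihilating each other add up to the maximal ideal.
-/

set_option autoImplicit false
set_option backward.isDefEq.respectTransparency false
set_option linter.style.haveILetI false
universe u

open IsLocalRing

noncomputable section

namespace Groth.L21.CurveAdj

open Groth.L21.Nodal

variable {F : Type u} [Field F] {B : Type u} [CommRing B] [IsLocalRing B] [IsNoetherianRing B]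
  (ψ : AdicCompletion (maximalIdeal B) B ≃+* R2 F)

theorem eq_zero_of_rho {a : B} (h : ∀ i, rho ψ i a = 0) : a = 0 := by
  haveI : Module.FaithfullyFlat B (AdicCompletion (maximalIdeal B) B) :=
    Module.FaithfullyFlat.of_flat_of_isLocalHom
  refine FaithfulSMul.algebraMap_injective B (AdicCompletion (maximalIdeal B) B) ?_
  rw [map_zero]
  exact ψ.injective ((branch_injective _ fun i => h i).trans (map_zero ψ).symm)

/-- One branch: the coordinate killed by branch `i` lies in the annihilator of `P`. -/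
theorem coord_mem_map {P Q : Ideal B} (i j : Fin 2) (hij : ∀ l, l = i ∨ l = j)
    (hQ : ∀ a, (∀ b ∈ P, b * a = 0) → a ∈ Q) (hP : ∀ b ∈ P, rho ψ j b = 0)
    {w : B} (hwP : w ∈ P) (hw : rho ψ i w ≠ 0) :
    ψ.symm (Ideal.Quotient.mk _ (MvPowerSeries.X i)) ∈
      Q.map (algebraMap B (AdicCompletion (maximalIdeal B) B)) := by
  set z := ψ.symm (Ideal.Quotient.mk _ (MvPowerSeries.X i)) with hz
  have h0 : ∑ _l : Fin 1, w • z = 0 := by
    rw [Fin.sum_univ_one, Algebra.smul_def]
    refine ψ.injective ((branch_injective _ fun l => ?_).trans (map_zero ψ).symm)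
    rw [map_mul, map_mul, hz, RingEquiv.apply_symm_apply, ← rho_apply, branch_mk]
    rcases hij l with rfl | rfl
    · rw [Groth.L14.Node.q_X_self, mul_zero]
    · rw [hP w hwP, zero_mul]
  obtain ⟨n, a, y, hy, ha⟩ := Module.Flat.isTrivialRelation_of_sum_smul_eq_zero h0
  rw [show z = ∑ l, a 0 l • y l from hy 0]
  refine Ideal.sum_mem _ fun l _ => ?_
  rw [Algebra.smul_def]
  refine Ideal.mul_mem_right _ _ (Ideal.mem_map_of_mem _ (hQ _ fun b hb => ?_))
  refine eq_zero_of_rho ψ fun m => ?_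
  rw [map_mul]
  rcases hij m with rfl | rfl
  · have h1 := congrArg (rho ψ m) (ha l)
    rw [Fin.sum_univ_one, map_mul, map_zero, mul_eq_zero] at h1
    rw [h1.resolve_left hw, mul_zero]
  · rw [hP b hb, zero_mul]

include ψ in
/-- Two non-zero ideals which are each other's annihilator span the maximal ideal at a node. -/
theorem sup_eq_maximalIdeal {P Q : Ideal B} (hP : P ≠ ⊥) (hQ : Q ≠ ⊥)
    (hPQ : ∀ a, (∀ b ∈ P, b * a = 0) ↔ a ∈ Q) (hQP : ∀ a, (∀ b ∈ Q, b * a = 0) ↔ a ∈ P) :
    P ⊔ Q = maximalIdeal B := by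
  obtain ⟨w, hwP, hw0⟩ := Submodule.exists_mem_ne_zero_of_ne_bot hP
  obtain ⟨v, hvQ, hv0⟩ := Submodule.exists_mem_ne_zero_of_ne_bot hQ
  have hle : P ⊔ Q ≤ maximalIdeal B := sup_le
    (le_maximalIdeal fun h => hv0 (by simpa using (hPQ v).2 hvQ 1 (h ▸ Submodule.mem_top)))
    (le_maximalIdeal fun h => hw0 (by simpa using (hQP w).2 hwP 1 (h ▸ Submodule.mem_top)))
  refine le_antisymm hle ?_
  obtain ⟨i, hi⟩ : ∃ i, rho ψ i w ≠ 0 := by
    by_contra h
    push Not at h
    exact hw0 (eq_zero_of_rho ψ h)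
  have hij : ∀ l, l = i ∨ l = 1 - i := by intro l; fin_cases i <;> fin_cases l <;> simp
  have hQi : ∀ b ∈ Q, rho ψ i b = 0 := fun b hb => by
    have h1 := congrArg (rho ψ i) ((hQP w).2 hwP b hb)
    rw [map_mul, map_zero, mul_eq_zero] at h1
    exact h1.resolve_right hi
  have hv : rho ψ (1 - i) v ≠ 0 := fun h => hv0 (eq_zero_of_rho ψ fun l => by
    rcases hij l with rfl | rfl
    · exact hQi v hvQ
    · exact h)
  have hPj : ∀ b ∈ P, rho ψ (1 - i) b = 0 := fun b hb => by
    have h1 := congrArg (rho ψ (1 - i)) ((hPQ v).2 hvQ b hb)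
    rw [map_mul, map_zero, mul_eq_zero] at h1
    exact h1.resolve_right hv
  haveI : Module.FaithfullyFlat B (AdicCompletion (maximalIdeal B) B) :=
    Module.FaithfullyFlat.of_flat_of_isLocalHom
  have hmem : ∀ l : Fin 2, ψ.symm (Ideal.Quotient.mk _ (MvPowerSeries.X l)) ∈
      (P ⊔ Q).map (algebraMap B (AdicCompletion (maximalIdeal B) B)) := fun l => by
    rcases hij l with rfl | rfl
    · exact Ideal.map_mono le_sup_right (coord_mem_map ψ l (1 - l) hij (fun a h => (hPQ a).1 h) hPj hwP hi)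
    · exact Ideal.map_mono le_sup_left (coord_mem_map ψ (1 - i) i (fun l => (hij l).symm)
        (fun a h => (hQP a).1 h) hQi hvQ hv)
  rw [← Ideal.comap_map_eq_self_of_faithfullyFlat (B := AdicCompletion (maximalIdeal B) B) (P ⊔ Q)]
  intro b hb
  rw [Ideal.mem_comap]
  have h1 : ψ (algebraMap B _ b) ∈ R2max F := by
    rw [← map_maximalIdeal_completion ψ]
    exact Ideal.mem_map_of_mem _ hb
  have h2 : R2max F ≤
      ((P ⊔ Q).map (algebraMap B (AdicCompletion (maximalIdeal B) B))).comap (ψ.symm : R2 F →+* _) := by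
    rw [R2max, Ideal.span_le]
    rintro _ (rfl | rfl)
    · exact hmem 0
    · exact hmem 1
  have h3 : ψ.symm (ψ (algebraMap B _ b)) ∈ (P ⊔ Q).map (algebraMap B (AdicCompletion (maximalIdeal B) B)) := h2 h1
  rwa [RingEquiv.symm_apply_apply] at h3

end Groth.L21.CurveAdj
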