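import Groth.Agent.L21.CurveAdj.Nodal
import Groth.Agent.L21.CurveAdj.NodeSplit
import Groth.Agent.L21.RR.Point

/-!
Over an algebraically closed field a subcurve meets the rest in reduced points.
-/

set_option autoImplicit false
set_option backward.isDefEq.respectTransparency false
set_option backward.isDefEq.respectTransparency.types false
set_option linter.style.haveILetI false
universe u

open CategoryTheory CategoryTheory.Limits AlgebraicGeometry Opposite TopologicalSpace

noncomputable section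

namespace Groth.L21.CurveAdj

open Groth.L21.RR (h cstAt e0 SuppClosed)

variable {k : Type u} [Field k] {X : Scheme.{u}} [X.Over (Spec (CommRingCat.of k))]
  [IsProper (X ↘ Spec (CommRingCat.of k))] [IsAlgClosed k] [AlgebraicGeometry.IsReduced X]
  (hX : Curv2.AtWorstNodal k X) (hd : topologicalKrullDim X ≤ 1)
  (hgen : ∀ z : X, ∃ w, ¬ IsClosed ({w} : Set X) ∧ w ⤳ z)
  {J J' : X.IdealSheafData} {A : Set X} (hJ : Van J A) (hJ' : Van J' Aᶜ)

include hX hd hgen hJ hJ' in
/-- The two sides meet transversally. -/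
theorem stI_sup_eq_maximalIdeal {x : X} (hx : IsClosed ({x} : Set X)) (hne : stI J x ⊔ stI J' x ≠ ⊤) :
    stI J x ⊔ stI J' x = IsLocalRing.maximalIdeal (X.presheaf.stalk x) := by
  haveI := Groth.L21.RR.isNoetherian_of_proper (X := X) k
  have hPQ : ∀ a, (∀ b ∈ stI J x, b * a = 0) ↔ a ∈ stI J' x := fun a =>
    ann_stI (A := Aᶜ) hd hgen hJ' ((compl_compl A).symm ▸ hJ) a
  have hQP : ∀ a, (∀ b ∈ stI J' x, b * a = 0) ↔ a ∈ stI J x := fun a => ann_stI hd hgen hJ hJ' a
  set P := stI J x
  set Q := stI J' x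
  have hP : P ≠ ⊥ := fun hP => hne (Ideal.eq_top_of_isUnit_mem _
    (Ideal.mem_sup_right ((hPQ 1).1 fun b hb => by rw [hP] at hb; simpa using hb)) isUnit_one)
  have hQ : Q ≠ ⊥ := fun hQ => hne (Ideal.eq_top_of_isUnit_mem _
    (Ideal.mem_sup_left ((hQP 1).1 fun b hb => by rw [hQ] at hb; simpa using hb)) isUnit_one)
  rcases hX x hx with ⟨U, hxU, hU⟩ | hn
  · exfalso
    haveI := Groth.L21.Smooth.regular_stalk (U.ι ≫ (X ↘ Spec (CommRingCat.of k))) ⟨x, hxU⟩
    haveI : IsRegularLocalRing (X.presheaf.stalk x) :=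
      IsRegularLocalRing.of_ringEquiv (U.stalkIso ⟨x, hxU⟩).commRingCatIsoToRingEquiv
    haveI : IsDomain (X.presheaf.stalk x) := Groth.L01.isDomain_of_regular _
    obtain ⟨p, hp, hp0⟩ := Submodule.exists_mem_ne_zero_of_ne_bot hP
    obtain ⟨q, hq, hq0⟩ := Submodule.exists_mem_ne_zero_of_ne_bot hQ
    exact mul_ne_zero hp0 hq0 ((hPQ q).2 hq p hp)
  · obtain ⟨z, hz⟩ := Groth.L21.Nodal.bcFst_surjective (k := k) (X := X) k x
    have hodp := Groth.L21.Nodal.odpAt_of_isNode (k := k) k x hn z hz
    haveI : IsLocallyNoetherian (Curv2.bc k X k) := LocallyOfFiniteType.isLocallyNoetherian (Curv2.bcSnd k X k)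
    haveI : IsIso (Spec.map (CommRingCat.ofHom (algebraMap k k))) :=
      inferInstanceAs (IsIso (Spec.map (𝟙 (CommRingCat.of k))))
    haveI : IsIso (Curv2.bcFst k X k) := inferInstanceAs (IsIso (pullback.fst _ _))
    letI : (Curv2.bc k X k).Over (Spec (CommRingCat.of k)) := ⟨Curv2.bcSnd k X k⟩
    letI := Curv2.stalkAlgebra k (Curv2.bc k X k) z
    obtain ⟨ψ, -⟩ : Curv2.IsOrdDoublePt k ((Curv2.bc k X k).presheaf.stalk z) := hodp
    subst hz
    let φ : X.presheaf.stalk (Curv2.bcFst k X k z) ≃+* (Curv2.bc k X k).presheaf.stalk z :=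
      (asIso ((Curv2.bcFst k X k).stalkMap z)).commRingCatIsoToRingEquiv
    let P' := P.comap φ.symm.toRingHom
    let Q' := Q.comap φ.symm.toRingHom
    have key : ∀ (R : Ideal (X.presheaf.stalk (Curv2.bcFst k X k z))) a,
        (∀ b ∈ R.comap φ.symm.toRingHom, b * a = 0) ↔ ∀ b ∈ R, b * φ.symm a = 0 := fun R a => by
      refine ⟨fun h b hb => ?_, fun h b hb => φ.symm.injective ?_⟩
      · have h1 := h (φ b) (by rw [Ideal.mem_comap]; simpa using hb)
        simpa using congrArg φ.symm h1
      · rw [map_mul, map_zero]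
        exact h _ hb
    have hne' : ∀ {R : Ideal (X.presheaf.stalk (Curv2.bcFst k X k z))}, R ≠ ⊥ → R.comap φ.symm.toRingHom ≠ ⊥ := by
      intro R hR h
      obtain ⟨r, hr, hr0⟩ := Submodule.exists_mem_ne_zero_of_ne_bot hR
      have h1 : φ r ∈ R.comap φ.symm.toRingHom := by rw [Ideal.mem_comap]; simpa using hr
      rw [h, Ideal.mem_bot] at h1
      exact hr0 (φ.injective (h1.trans (map_zero φ).symm))
    have hmax := sup_eq_maximalIdeal ψ (P := P') (Q := Q') (hne' hP) (hne' hQ)
      (fun a => (key P a).trans (hPQ _)) (fun a => (key Q a).trans (hQP _))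
    refine le_antisymm (IsLocalRing.le_maximalIdeal hne) fun b hb => ?_
    have hb' : φ b ∈ P' ⊔ Q' := by
      rw [hmax, IsLocalRing.mem_maximalIdeal, mem_nonunits_iff, isUnit_map_iff]
      exact hb
    obtain ⟨p, hp, q, hq, hpq⟩ := Submodule.mem_sup.1 hb'
    rw [show b = φ.symm p + φ.symm q by rw [← map_add, hpq, RingEquiv.symm_apply_apply]]
    exact Submodule.add_mem_sup hp hq

include hX hd hgen hJ hJ' in
/-- The intersection counts points. -/
theorem h0_inter_eq_card :
    h k 0 (ClSub.quotMod (J ⊔ J')) = Nat.card ((J ⊔ J').support : Set X) := by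
  classical
  haveI := Groth.L21.RR.isNoetherian_of_proper (X := X) k
  let K := J ⊔ J'
  have hcl : ∀ x ∈ (K.support : Set X), IsClosed ({x} : Set X) := fun x hx => by
    by_contra hxn
    refine Groth.L22.CurveAmple.mem_support_quotMod K hx (subsingleton_of_forall_eq 0 fun v => ?_)
    obtain ⟨r, rfl⟩ := quotMap_surjective K x v
    rw [← LinearMap.mem_ker, ker_quotMap, stI_sup]
    by_cases hA : x ∈ A
    · rw [stI_eq_top hd hJ' hxn (not_not.2 hA), sup_top_eq]; exact Submodule.mem_top
    · rw [stI_eq_top hd hJ hxn hA, top_sup_eq]; exact Submodule.mem_top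
  have hS : SuppClosed (ClSub.quotMod K) := fun x hx =>
    Groth.L21.RR.subsingleton_stalk_quotMod K fun h => hx (hcl x h)
  have hmax : ∀ x ∈ (K.support : Set X), LinearMap.ker (quotMap K x) = IsLocalRing.maximalIdeal (X.presheaf.stalk x) := by
    intro x hx
    rw [ker_quotMap, stI_sup]
    refine stI_sup_eq_maximalIdeal hX hd hgen hJ hJ' (hcl x hx) fun htop => ?_
    refine Groth.L22.CurveAmple.mem_support_quotMod K hx (subsingleton_of_forall_eq 0 fun v => ?_)
    obtain ⟨r, rfl⟩ := quotMap_surjective K x v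
    rw [← LinearMap.mem_ker, ker_quotMap, stI_sup, htop]
    exact Submodule.mem_top
  have hinj : ∀ x ∈ (K.support : Set X), ∀ c : k, quotMap K x (cstAt k x c) = 0 → c = 0 := fun x hx c hc => by
    by_contra hne
    have h1 : cstAt k x c ∈ IsLocalRing.maximalIdeal (X.presheaf.stalk x) := hmax x hx ▸ LinearMap.mem_ker.2 hc
    exact h1 ((IsUnit.mk0 c hne).map (cstAt k x))
  have hsurj : ∀ x ∈ (K.support : Set X), ∀ v, ∃ c : k, quotMap K x (cstAt k x c) = v := fun x hx v => by
    obtain ⟨r, rfl⟩ := quotMap_surjective K x v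
    obtain ⟨c, hc⟩ := Groth.L21.RR.isRat_of_isClosed k (hcl x hx) r
    refine ⟨c, ?_⟩
    rw [← hmax x hx, LinearMap.mem_ker, map_sub, sub_eq_zero] at hc
    exact hc.symm
  have hfin : (K.support : Set X).Finite :=
    ((Groth.L21.RR.Top.finite_of_forall_isClosed (X := X.toTopCat) (U := ⊤)
      (K.support.isClosed.preimage continuous_subtype_val) fun x hx => hcl x.1 hx).image Subtype.val).subset
      fun x hx => ⟨⟨x, trivial⟩, hx, rfl⟩
  have key : ∀ v : ↥(K.support : Set X) → k, ∃ s : Γ(ClSub.quotMod K, ⊤), ∀ (x : X) (hx : x ∈ (K.support : Set X)),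
      (ClSub.quotMod K).presheaf.germ ⊤ x trivial s = quotMap K x (cstAt k x (v ⟨x, hx⟩)) := fun v => by
    obtain ⟨s, hs⟩ := Groth.L21.RR.exists_section_of_finite hS
      (fun x => if hx : x ∈ (K.support : Set X) then quotMap K x (cstAt k x (v ⟨x, hx⟩)) else 0) hfin.toFinset
      fun x hx => dif_neg fun h => hx (hfin.mem_toFinset.2 h)
    exact ⟨s, fun x hx => (hs x).trans (dif_pos hx)⟩
  choose T hT using key
  have hext : ∀ s s' : Γ(ClSub.quotMod K, ⊤), (∀ x ∈ (K.support : Set X),
      (ClSub.quotMod K).presheaf.germ ⊤ x trivial s = (ClSub.quotMod K).presheaf.germ ⊤ x trivial s') → s = s' :=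
    fun s s' h => Groth.L21.RR.germ_ext fun x _ => if hx : x ∈ (K.support : Set X) then h x hx else
      (Groth.L21.RR.subsingleton_stalk_quotMod K hx).elim _ _
  let L : (↥(K.support : Set X) → k) →ₗ[k] Coh.HH X (ClSub.quotMod K) 0 :=
    { toFun := fun v => (e0 _).symm (T v)
      map_add' := fun u v => (e0 _).injective <| hext _ _ fun x hx => by
        rw [map_add (e0 _), AddEquiv.apply_symm_apply, AddEquiv.apply_symm_apply, AddEquiv.apply_symm_apply,
          map_add, hT _ x hx, hT _ x hx, hT _ x hx, Pi.add_apply, map_add, map_add]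
      map_smul' := fun c v => (e0 _).injective <| hext _ _ fun x hx => by
        rw [RingHom.id_apply, Groth.L21.RR.e0_smul k, AddEquiv.apply_symm_apply, AddEquiv.apply_symm_apply,
          hT _ x hx, Groth.L20.ModStalk.germ_smul, hT _ x hx, Pi.smul_apply, smul_eq_mul, map_mul,
          ← smul_eq_mul, map_smul]
        rfl }
  have hL : Function.Bijective L := by
    refine ⟨(injective_iff_map_eq_zero L).2 fun v hv => funext fun x => hinj x.1 x.2 _ ?_, fun b => ?_⟩
    · have h1 := congrArg (e0 (ClSub.quotMod K)) hv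
      rw [map_zero] at h1
      rw [← hT v x.1 x.2, show T v = 0 from ((e0 _).apply_symm_apply _).symm.trans h1, map_zero]
    · choose c hc using fun x : (K.support : Set X) =>
        hsurj x.1 x.2 ((ClSub.quotMod K).presheaf.germ ⊤ x.1 trivial (e0 _ b))
      refine ⟨c, (e0 _).injective (hext _ _ fun x hx => ?_)⟩
      change (ClSub.quotMod K).presheaf.germ ⊤ x trivial (e0 _ ((e0 _).symm (T c))) = _
      rw [AddEquiv.apply_symm_apply, hT c x hx, hc ⟨x, hx⟩]
  haveI : Fintype (K.support : Set X) := hfin.fintype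
  exact (LinearEquiv.ofBijective L hL).finrank_eq.symm.trans ((Module.finrank_pi k).trans Nat.card_eq_fintype_card.symm)

end Groth.L21.CurveAdj
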