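import Groth.Agent.L21.CurveAdj.Balanced
import Groth.Agent.L21.CurveAdj.Delta
import Mathlib.RingTheory.PicardGroup

/-!
Marked points: the degree of the inverse of the ideal of finitely many points on every subcurve.
-/

set_option autoImplicit false
set_option backward.isDefEq.respectTransparency false
set_option backward.isDefEq.respectTransparency.types false
set_option linter.style.haveILetI false
universe u

open CategoryTheory CategoryTheory.Limits AlgebraicGeometry Opposite TopologicalSpace

noncomputable section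

namespace Groth.L21.CurveAdj

open Groth.L21.RR (h cstAt st e0 oneSec SuppClosed finite_HH' twι twπ)
open Groth.L22.CurveDeg (phi)
open Groth.L16.CohSupport (len)

variable {X : Scheme.{u}}

theorem nonempty_stalk_equiv_of_inverse [IsLocallyNoetherian X] {N M : X.Modules} (hN : ClSub.IsInverseOf N M)
    (x : X) : Module.Invertible (X.presheaf.stalk x) (M.presheaf.stalk x) := by
  obtain ⟨e⟩ := hN
  let eT : (CohB1.tensorMod N M).presheaf.stalk x ≃ₗ[X.presheaf.stalk x] X.presheaf.stalk x :=
    (LinearEquiv.ofBijective (st e.hom x) ((Groth.L21.Mod.isIso_iff_stalk_bijective e.hom).1 inferInstance x)).trans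
      (Groth.L15.Ref.strE x).symm
  exact Module.Invertible.right ((Groth.L00.Stk.τ x N M).toLinearEquiv.trans eT)

theorem isInvertible_of_isInverse_idealMod [IsLocallyNoetherian X] {N : X.Modules} {I : X.IdealSheafData}
    (hN : ClSub.IsInverseOf N (ClSub.idealMod I)) :
    PicF.IsInvertible (ClSub.idealMod I) ∧ PicF.IsInvertible N := by
  have hI := Groth.L21.RR.isCoh_idealMod I
  have hInv : PicF.IsInvertible (ClSub.idealMod I) := by
    refine Groth.L21.CurveGor.isInvertible_of_stalk_equiv hI fun x => ?_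
    haveI := nonempty_stalk_equiv_of_inverse hN x
    haveI : Module.Free (X.presheaf.stalk x) ((ClSub.idealMod I).presheaf.stalk x) :=
      Module.free_of_flat_of_isLocalRing
    exact Module.Invertible.free_iff_linearEquiv.1 inferInstance
  exact ⟨hInv, Groth.L16.NegPow.isInvertible_inverse hInv
    (Groth.L00.Tensor.tensorComm (ClSub.idealMod I) N ≪≫ hN.some)⟩

variable [AlgebraicGeometry.IsNoetherian X]

/-- The stalk of the ideal of finitely many closed points. -/
theorem stI_vanishingIdeal_finite {D : Set X} (hDcl : IsClosed D) (hD : D.Finite)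
    (hpts : ∀ x ∈ D, IsClosed ({x} : Set X)) {x : X} (hx : x ∈ D) :
    stI (Scheme.IdealSheafData.vanishingIdeal ⟨D, hDcl⟩) x = IsLocalRing.maximalIdeal (X.presheaf.stalk x) := by
  set I := Scheme.IdealSheafData.vanishingIdeal (⟨D, hDcl⟩ : Closeds X) with hI
  have hsupp : x ∈ (I.support : Set X) := by rw [hI, Scheme.IdealSheafData.coe_support_vanishingIdeal]; exact hx
  have hE : IsClosed (D \ {x}) := by
    have : D \ {x} = ⋃ y ∈ D \ {x}, ({y} : Set X) := (Set.biUnion_of_singleton _).symm
    rw [this]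
    exact (hD.sdiff).isClosed_biUnion fun y hy => hpts y hy.1
  refine le_antisymm (IsLocalRing.le_maximalIdeal fun htop => ?_) fun a ha => ?_
  · refine Groth.L22.CurveAmple.mem_support_quotMod I hsupp (subsingleton_of_forall_eq 0 fun v => ?_)
    obtain ⟨r, rfl⟩ := quotMap_surjective I x v
    rw [← LinearMap.mem_ker, ker_quotMap, htop]
    exact Submodule.mem_top
  obtain ⟨W, hxW, s, rfl⟩ := TopCat.Presheaf.exists_germ_eq X.presheaf a
  obtain ⟨V, hV, hxV, hVW⟩ := exists_isAffineOpen_mem_and_subset (x := x)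
    (U := ⟨(W : Set X) ∩ (D \ {x})ᶜ, W.2.inter hE.isOpen_compl⟩) ⟨hxW, fun h => h.2 rfl⟩
  have hle : V ≤ W := fun z hz => (hVW hz).1
  rw [← X.presheaf.germ_res_apply (homOfLE hle) x hxV s] at ha ⊢
  set r := X.presheaf.map (homOfLE hle).op s
  rw [stI_eq_map I hV hxV]
  refine Ideal.mem_map_of_mem _ ?_
  rw [hI, Scheme.IdealSheafData.vanishingIdeal_ideal, PrimeSpectrum.mem_vanishingIdeal]
  intro q hq
  have hy : hV.fromSpec q ∈ V := by
    have : hV.fromSpec q ∈ Set.range hV.fromSpec := ⟨q, rfl⟩
    rwa [hV.range_fromSpec] at this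
  have hyD : hV.fromSpec q ∈ D := hq
  have hyx : hV.fromSpec q = x := by
    by_contra hne
    exact (hVW hy).2 ⟨hyD, hne⟩
  have hqeq : hV.primeIdealOf ⟨x, hxV⟩ = q :=
    hV.fromSpec.isOpenEmbedding.injective ((hV.fromSpec_primeIdealOf _).trans hyx.symm)
  letI := X.presheaf.algebra_section_stalk (⟨x, hxV⟩ : V)
  haveI := hV.isLocalization_stalk ⟨x, hxV⟩
  rw [← hqeq]
  by_contra hnot
  exact ha ((IsLocalization.AtPrime.isUnit_to_map_iff (X.presheaf.stalk x)
    (hV.primeIdealOf ⟨x, hxV⟩).asIdeal r).2 hnot)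

variable {k : Type u} [Field k] [X.Over (Spec (CommRingCat.of k))] [IsProper (X ↘ Spec (CommRingCat.of k))]

/-- A reduced finite subscheme over an algebraically closed field: `h⁰` counts points. -/
theorem h0_quotMod_eq_card [IsAlgClosed k] (K : X.IdealSheafData)
    (hcl : ∀ x ∈ (K.support : Set X), IsClosed ({x} : Set X))
    (hmax : ∀ x ∈ (K.support : Set X), LinearMap.ker (quotMap K x) = IsLocalRing.maximalIdeal (X.presheaf.stalk x)) :
    h k 0 (ClSub.quotMod K) = Nat.card (K.support : Set X) := by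
  classical
  have hS : SuppClosed (ClSub.quotMod K) := fun x hx =>
    Groth.L21.RR.subsingleton_stalk_quotMod K fun h => hx (hcl x h)
  have hinj : ∀ x ∈ (K.support : Set X), ∀ c : k, quotMap K x (cstAt k x c) = 0 → c = 0 := fun x hx c hc => by
    by_contra hne
    have h1 : cstAt k x c ∈ IsLocalRing.maximalIdeal (X.presheaf.stalk x) := hmax x hx ▸ LinearMap.mem_ker.2 hc
    exact h1 ((IsUnit.mk0 c hne).map (cstAt k x))
  have hsurj : ∀ x ∈ (K.support : Set X), ∀ v, ∃ c : k, quotMap K x (cstAt k x c) = v := fun x hx v => by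
    obtain ⟨r, rfl⟩ := quotMap_surjective K x v
    obtain ⟨c, hc⟩ := Groth.L21.RR.isRat_of_isClosed k (hcl x hx) r
    refine ⟨c, ?_⟩
    rw [← hmax x hx, LinearMap.mem_ker, map_sub, sub_eq_zero] at hc
    exact hc.symm
  have hfin : (K.support : Set X).Finite :=
    ((Groth.L21.RR.Top.finite_of_forall_isClosed (X := X.toTopCat) (U := ⊤)
      (K.support.isClosed.preimage continuous_subtype_val) fun x hx => hcl x.1 hx).image Subtype.val).subset
      fun x hx => ⟨⟨x, trivial⟩, hx, rfl⟩
  have key : ∀ v : ↥(K.support : Set X) → k, ∃ s : Γ(ClSub.quotMod K, ⊤), ∀ (x : X) (hx : x ∈ (K.support : Set X)),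
      (ClSub.quotMod K).presheaf.germ ⊤ x trivial s = quotMap K x (cstAt k x (v ⟨x, hx⟩)) := fun v => by
    obtain ⟨s, hs⟩ := Groth.L21.RR.exists_section_of_finite hS
      (fun x => if hx : x ∈ (K.support : Set X) then quotMap K x (cstAt k x (v ⟨x, hx⟩)) else 0) hfin.toFinset
      fun x hx => dif_neg fun h => hx (hfin.mem_toFinset.2 h)
    exact ⟨s, fun x hx => (hs x).trans (dif_pos hx)⟩
  choose T hT using key
  have hext : ∀ s s' : Γ(ClSub.quotMod K, ⊤), (∀ x ∈ (K.support : Set X),
      (ClSub.quotMod K).presheaf.germ ⊤ x trivial s = (ClSub.quotMod K).presheaf.germ ⊤ x trivial s') → s = s' :=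
    fun s s' h => Groth.L21.RR.germ_ext fun x _ => if hx : x ∈ (K.support : Set X) then h x hx else
      (Groth.L21.RR.subsingleton_stalk_quotMod K hx).elim _ _
  let L : (↥(K.support : Set X) → k) →ₗ[k] Coh.HH X (ClSub.quotMod K) 0 :=
    { toFun := fun v => (e0 _).symm (T v)
      map_add' := fun u v => (e0 _).injective <| hext _ _ fun x hx => by
        rw [map_add (e0 _), AddEquiv.apply_symm_apply, AddEquiv.apply_symm_apply, AddEquiv.apply_symm_apply,
          map_add, hT _ x hx, hT _ x hx, hT _ x hx, Pi.add_apply, map_add, map_add]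
      map_smul' := fun c v => (e0 _).injective <| hext _ _ fun x hx => by
        rw [RingHom.id_apply, Groth.L21.RR.e0_smul k, AddEquiv.apply_symm_apply, AddEquiv.apply_symm_apply,
          hT _ x hx, Groth.L20.ModStalk.germ_smul, hT _ x hx, Pi.smul_apply, smul_eq_mul, map_mul,
          ← smul_eq_mul, map_smul]
        rfl }
  have hL : Function.Bijective L := by
    refine ⟨(injective_iff_map_eq_zero L).2 fun v hv => funext fun x => hinj x.1 x.2 _ ?_, fun b => ?_⟩
    · have h1 := congrArg (e0 (ClSub.quotMod K)) hv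
      rw [map_zero] at h1
      rw [← hT v x.1 x.2, show T v = 0 from ((e0 _).apply_symm_apply _).symm.trans h1, map_zero]
    · choose c hc using fun x : (K.support : Set X) =>
        hsurj x.1 x.2 ((ClSub.quotMod K).presheaf.germ ⊤ x.1 trivial (e0 _ b))
      refine ⟨c, (e0 _).injective (hext _ _ fun x hx => ?_)⟩
      change (ClSub.quotMod K).presheaf.germ ⊤ x trivial (e0 _ ((e0 _).symm (T c))) = _
      rw [AddEquiv.apply_symm_apply, hT c x hx, hc ⟨x, hx⟩]
  haveI : Fintype (K.support : Set X) := hfin.fintype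
  exact (LinearEquiv.ofBijective L hL).finrank_eq.symm.trans ((Module.finrank_pi k).trans Nat.card_eq_fintype_card.symm)

/-- Points in the support bound `h⁰`. -/
theorem card_le_h0 {M : X.Modules} (hM : SuppClosed M) [Module.Finite k (Coh.HH X M 0)] (T : Finset X)
    (hT : ∀ x ∈ T, ¬ Subsingleton (M.presheaf.stalk x)) : T.card ≤ h k 0 M := by
  classical
  have hv : ∀ x : T, ∃ v : M.presheaf.stalk x.1, v ≠ 0 := fun x => by
    by_contra hh
    push Not at hh
    exact hT x.1 x.2 (subsingleton_of_forall_eq 0 hh)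
  choose v hv using hv
  have key : ∀ c : T → k, ∃ s : Γ(M, ⊤), ∀ x : X,
      M.presheaf.germ ⊤ x trivial s = if hx : x ∈ T then cstAt k x (c ⟨x, hx⟩) • v ⟨x, hx⟩ else 0 := fun c =>
    Groth.L21.RR.exists_section_of_finite hM _ T fun x hx => dif_neg hx
  choose s hs using key
  let L : (T → k) →ₗ[k] Coh.HH X M 0 :=
    { toFun := fun c => (e0 _).symm (s c)
      map_add' := fun a b => (e0 _).injective <| Groth.L21.RR.germ_ext fun x _ => by
        rw [map_add (e0 _), AddEquiv.apply_symm_apply, AddEquiv.apply_symm_apply, AddEquiv.apply_symm_apply,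
          map_add, hs, hs, hs]
        split_ifs
        · rw [Pi.add_apply, map_add, add_smul]
        · rw [add_zero]
      map_smul' := fun r a => (e0 _).injective <| Groth.L21.RR.germ_ext fun x _ => by
        rw [RingHom.id_apply, Groth.L21.RR.e0_smul k, AddEquiv.apply_symm_apply, AddEquiv.apply_symm_apply,
          hs, Groth.L20.ModStalk.germ_smul, hs]
        split_ifs
        · rw [Pi.smul_apply, smul_eq_mul, map_mul, mul_smul]
          rfl
        · rw [smul_zero] }
  have hL : Function.Injective L := (injective_iff_map_eq_zero L).2 fun c hc => funext fun x => by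
    by_contra hne
    have h1 := congrArg (e0 M) hc
    rw [map_zero] at h1
    have h2 : M.presheaf.germ ⊤ x.1 trivial (s c) = 0 := by
      rw [show s c = 0 from ((e0 _).apply_symm_apply _).symm.trans h1, map_zero]
    rw [hs, dif_pos x.2] at h2
    exact hv x ((((IsUnit.mk0 (c x) hne).map (cstAt k x.1)).smul_eq_zero).1 h2)
  have h1 := L.finrank_le_finrank_of_injective hL
  rwa [Module.finrank_pi, Fintype.card_coe] at h1

variable [AlgebraicGeometry.IsReduced X]

open scoped Classical in
theorem deg_eq_sum (hd : topologicalKrullDim X ≤ 1) (hgen : ∀ z : X, ∃ w, ¬ IsClosed ({w} : Set X) ∧ w ⤳ z)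
    {L : X.Modules} (hL : PicF.IsInvertible L) (N : Finset X) (hN : ∀ x, x ∈ N ↔ ¬ IsClosed ({x} : Set X)) :
    Curv2.deg k X L 1 =
      ∑ y ∈ N, degOn k L (Scheme.IdealSheafData.vanishingIdeal ⟨closure {y}, isClosed_closure⟩) := by
  have hvanC : ∀ y, ¬ IsClosed ({y} : Set X) →
      Van (Scheme.IdealSheafData.vanishingIdeal ⟨closure {y}, isClosed_closure⟩) (closure {y}) := by
    intro y hy
    obtain ⟨hr, -, hgC⟩ := component hgen (closure {y}) (closure_mem_components hd hy)
    haveI := hr
    have := van_of_isReduced hd _ hgC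
    rwa [coe_support_IC] at this
  simp only [degOn_eq_phi L hL]
  rw [← Groth.L22.CurveDeg.phi_structure k,
    Groth.L22.CurveDeg.phi_eq_sum k hd (Groth.L12.FinCov.isFinLocFreeOfRank_one_of_isInvertible hL) N hN
      (fun y => ClSub.quotMod (Scheme.IdealSheafData.vanishingIdeal ⟨closure {y}, isClosed_closure⟩))
      (fun y hy => ?_) Groth.L16.CohClosedPush.isCoh_structure]
  · refine Finset.sum_congr rfl fun y hy => ?_
    have hlen : len y (Coh.structureModule X) = 1 := by
      let e₁ : X.presheaf.stalk y ≃ₗ[X.presheaf.stalk y] (Coh.structureModule X).presheaf.stalk y :=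
        LinearEquiv.ofBijective (LinearMap.toSpanSingleton _ _ (Groth.L21.RR.one X y))
          (Groth.L21.RR.bijective_smul_one y)
      change Module.length (X.presheaf.stalk y) ((Coh.structureModule X).presheaf.stalk y) = 1
      rw [← e₁.length_eq, Module.length_eq_one_iff]
      letI := (Groth.L21.RedCurve.stalk_isField hd ((hN y).1 hy)).toField
      infer_instance
    rw [hlen]
    simp
  · refine ⟨Groth.L21.RR.isCoh_quotMod _, fun z hz => ?_, ?_⟩
    · by_contra hzc
      exact hz (Groth.L21.RR.subsingleton_stalk_quotMod _ fun hh =>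
        hzc ((Scheme.IdealSheafData.coe_support_vanishingIdeal _).le hh))
    · rw [len_quotMod hd (hvanC y ((hN y).1 hy)) ((hN y).1 hy),
        if_pos (show y ∈ closure ({y} : Set X) from subset_closure rfl)]

/-- The inverse of the ideal of finitely many points has degree the number of points on each subcurve. -/
theorem degOn_inverse [IsAlgClosed k] (hd : topologicalKrullDim X ≤ 1)
    (hgen : ∀ z : X, ∃ w, ¬ IsClosed ({w} : Set X) ∧ w ⤳ z) {D : Set X} (hDcl : IsClosed D) (hDfin : D.Finite)
    (hpts : ∀ x ∈ D, IsClosed ({x} : Set X)) {N : X.Modules}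
    (hN : ClSub.IsInverseOf N (ClSub.idealMod (Scheme.IdealSheafData.vanishingIdeal ⟨D, hDcl⟩))) :
    PicF.IsInvertible N ∧ Curv2.deg k X N 1 = (Nat.card D : ℤ) ∧
      ∀ {J : X.IdealSheafData} {A : Set X}, IsClosed A → Van J A →
        (∀ y ∈ A, ∃ w ∈ A, ¬ IsClosed ({w} : Set X) ∧ w ⤳ y) →
        degOn k N J = (Nat.card ↥(D ∩ A) : ℤ) := by
  classical
  haveI : X.IsSeparated := ⟨by rw [← Limits.terminal.comp_from (X ↘ Spec (CommRingCat.of k))]; infer_instance⟩
  obtain ⟨-, hNinv⟩ := isInvertible_of_isInverse_idealMod hN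
  obtain ⟨e⟩ := hN
  set I := Scheme.IdealSheafData.vanishingIdeal (⟨D, hDcl⟩ : Closeds X) with hI
  have hsupp : (I.support : Set X) = D := by rw [hI, Scheme.IdealSheafData.coe_support_vanishingIdeal]; rfl
  have hIs : SuppClosed (ClSub.quotMod I) := fun x hx =>
    Groth.L21.RR.subsingleton_stalk_quotMod I fun h => hx (hpts x (hsupp.le h))
  have hq : h k 0 (ClSub.quotMod I) = Nat.card D := by
    rw [h0_quotMod_eq_card I (fun x hx => hpts x (hsupp.le hx)) fun x hx => by
      rw [ker_quotMap]; exact stI_vanishingIdeal_finite hDcl hDfin hpts (hsupp.le hx), hsupp]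
  have hS := Groth.L21.RR.shortExact_tw I hNinv
  have htot : Curv2.deg k X N 1 = (Nat.card D : ℤ) := by
    have h1 := Groth.L21.RR.euler_add k hd hS (Groth.L21.RR.isCoh_twist I hNinv)
      (Groth.L16.ProperFinite.isCoh_of_isInvertible hNinv) (Groth.L21.RR.isCoh_twistQuot I hNinv)
    rw [Groth.L21.RR.euler_eq_h0_of_suppClosed k (Groth.L21.RR.suppClosed_tensor hNinv hIs),
      Groth.L21.RR.h0_tensor k hNinv hIs, hq] at h1
    have h2 : Curv2.euler k X (CohB1.tensorMod N (ClSub.idealMod I)) = Curv2.euler k X (Coh.structureModule X) :=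
      Groth.L03.Euler.euler_iso e
    rw [Curv2.deg]
    push_cast
    simp only [h2] at h1
    linarith
  -- the section
  let s : Coh.structureModule X ⟶ N := e.inv ≫ twι N I
  have hgl : ∀ x, x ∈ CohB1.genLocus N s ↔ x ∉ D := by
    intro x
    rw [mem_genLocus_iff' hNinv]
    constructor
    · intro hsur hxD
      obtain ⟨en, hen⟩ := Groth.L21.RR.exists_frame_stalk hNinv x
      refine Groth.L22.CurveAmple.mem_support_quotMod I (hsupp.ge hxD) (subsingleton_of_forall_eq 0 fun q => ?_)
      haveI : Epi (twπ N I) := hS.epi_g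
      obtain ⟨v, hv⟩ := (Groth.L21.Mod.epi_iff_stalk_surjective (twπ N I)).1 inferInstance x
        ((Groth.L21.RR.tensorStalkEquiv (ClSub.quotMod I) hen).symm q)
      obtain ⟨u, rfl⟩ := hsur v
      have h0 : st (twπ N I) x (st s x u) = 0 := by
        rw [Groth.L21.RR.st_comp, ← Groth.L21.RR.st_comp (twι N I) (twπ N I), Groth.L21.RR.twι_twπ, st_zero']
      have h3 := congrArg (Groth.L21.RR.tensorStalkEquiv (ClSub.quotMod I) hen) (hv.symm.trans h0)
      rwa [LinearEquiv.apply_symm_apply, map_zero] at h3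
    · intro hxD v
      haveI := Groth.L21.RR.subsingleton_stalk_quotMod I (x := x) (fun h => hxD (hsupp.le h))
      obtain ⟨en, hen⟩ := Groth.L21.RR.exists_frame_stalk hNinv x
      haveI := (Groth.L21.RR.tensorStalkEquiv (ClSub.quotMod I) hen).toEquiv.subsingleton
      haveI : Mono (twι N I) := hS.mono_f
      obtain ⟨u, hu⟩ : ∃ u, st (twι N I) x u = v :=
        (ShortComplex.moduleCat_exact_iff _).1 (hS.exact.map (Groth.L00.Stk.F X x)) v
          (Subsingleton.elim (α := (CohB1.tensorMod N (ClSub.quotMod I)).presheaf.stalk x) _ _)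
      obtain ⟨u', rfl⟩ := ((Groth.L21.Mod.isIso_iff_stalk_bijective e.inv).1 inferInstance x).2 u
      exact ⟨u', (Groth.L21.RR.st_comp _ _ x u').trans hu⟩
  let Nn := (Groth.L22.CurveDeg.finite_nonclosed hd).toFinset
  have hNn : ∀ x, x ∈ Nn ↔ ¬ IsClosed ({x} : Set X) := fun x => Set.Finite.mem_toFinset _
  let f : X → Finset X := fun y => hDfin.toFinset.filter (fun x => y ⤳ x)
  -- lower bound on components
  have hlb : ∀ y ∈ Nn, ((f y).card : ℤ) ≤
      degOn k N (Scheme.IdealSheafData.vanishingIdeal ⟨closure {y}, isClosed_closure⟩) := by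
    intro y hy
    have hyn := (hNn y).1 hy
    have hC := closure_mem_components hd hyn
    haveI := isIntegral_IC (closure {y}) hC
    change _ ≤ degOn k N (IC (closure {y}) hC)
    set J := IC (closure {y}) hC with hJ
    have hrange : Set.range J.subschemeι = closure {y} := by
      rw [Scheme.IdealSheafData.range_subschemeι, hJ, coe_support_IC]
    letI : J.subscheme.Over (Spec (CommRingCat.of k)) := ⟨J.subschemeι ≫ (X ↘ Spec (CommRingCat.of k))⟩
    haveI : IsProper (J.subscheme ↘ Spec (CommRingCat.of k)) :=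
      inferInstanceAs (IsProper (J.subschemeι ≫ (X ↘ Spec (CommRingCat.of k))))
    haveI := Groth.L21.RR.isNoetherian_of_proper (X := J.subscheme) k
    have hdJ : topologicalKrullDim J.subscheme ≤ 1 :=
      J.subschemeι.isClosedEmbedding.isInducing.topologicalKrullDim_le.trans hd
    have hLY := Groth.L18.Ample.isInvertible_pullback J.subschemeι hNinv
    have hgl' : ∀ z, z ∈ CohB1.genLocus _ (Groth.L18.Ample.pullHom J.subschemeι s) ↔ J.subschemeι z ∉ D := fun z => by
      rw [Groth.L18.Ample.genLocus_pullHom J.subschemeι hNinv s]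
      exact hgl _
    obtain ⟨y', hy'⟩ : y ∈ Set.range J.subschemeι := hrange.ge (subset_closure rfl)
    have hne : Groth.L18.Ample.pullHom J.subschemeι s ≠ 0 := fun h0 => by
      have h1 := (mem_genLocus_iff' hLY _ y').1 ((hgl' y').2 fun hD => hyn (hy' ▸ hpts _ hD))
      obtain ⟨en, hen⟩ := Groth.L21.RR.exists_frame_stalk hLY y'
      obtain ⟨v, hv⟩ := h1 en
      rw [h0] at hv
      have he0 : en = 0 := hv.symm.trans (st_zero' y' v)
      exact one_ne_zero (hen.1 (show (1 : J.subscheme.presheaf.stalk y') • en =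
        (0 : J.subscheme.presheaf.stalk y') • en by rw [he0, smul_zero, smul_zero]))
    have hadd := (Groth.L22.CurveDeg.deg_add k hdJ (Groth.L18.Ample.isInvertible_structureModule J.subscheme) hLY hne).1
    rw [Groth.L22.CurveDeg.deg_structure, zero_add] at hadd
    change _ ≤ Curv2.deg k J.subscheme ((Scheme.Modules.pullback J.subschemeι).obj N) 1
    rw [hadd]
    have hQ := (Groth.L16.CohKernel.isCoh_kernel_cokernel (Groth.L16.CohClosedPush.isCoh_structure (X := J.subscheme))
      (Groth.L16.ProperFinite.isCoh_of_isInvertible hLY) (Groth.L18.Ample.pullHom J.subschemeι s)).2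
    haveI := finite_HH' (X := J.subscheme) k hQ 0
    have hsc : SuppClosed (cokernel (Groth.L18.Ample.pullHom J.subschemeι s)) :=
      Groth.L21.RR.suppClosed_cokernel_of_surjective _ fun x hx => (show Function.Surjective _ from
        Groth.L22.CurveDeg.surjective_st_map_of_not_isClosed hdJ
          (Groth.L18.Ample.isInvertible_structureModule J.subscheme) hLY hne hx)
    have hinj := J.subschemeι.isClosedEmbedding.injective
    let T : Finset J.subscheme := (f y).preimage J.subschemeι hinj.injOn
    have hT : T.card = (f y).card := by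
      rw [Finset.card_preimage, Finset.filter_true_of_mem]
      intro x hx
      exact hrange.ge (specializes_iff_mem_closure.1 (Finset.mem_filter.1 hx).2)
    rw [← hT]
    refine Int.ofNat_le.2 (card_le_h0 hsc T fun z hz hsub => ?_)
    have hzD : J.subschemeι z ∈ D := hDfin.mem_toFinset.1 (Finset.mem_filter.1 (Finset.mem_preimage.1 hz)).1
    exact (hgl' z).1 ((mem_genLocus_iff' hLY _ z).2
      ((Groth.L03.Euler.notMem_support_cokernel_iff _).1 fun hs => hs hsub)) hzD
  -- every point lies on some component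
  have hcover : ∀ x ∈ hDfin.toFinset, 1 ≤ (Nn.filter fun y => y ⤳ x).card := fun x _ => by
    obtain ⟨w, hw, hwx⟩ := hgen x
    exact Finset.card_pos.2 ⟨w, Finset.mem_filter.2 ⟨(hNn w).2 hw, hwx⟩⟩
  have hswap : ∑ y ∈ Nn, (f y).card = ∑ x ∈ hDfin.toFinset, (Nn.filter fun y => y ⤳ x).card := by
    simp only [f, Finset.card_filter]
    exact Finset.sum_comm
  have hcard : Nat.card D = hDfin.toFinset.card := Nat.card_eq_card_finite_toFinset hDfin
  have h2 := deg_eq_sum (k := k) hd hgen hNinv Nn hNn
  rw [htot, hcard] at h2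
  have h3 : hDfin.toFinset.card ≤ ∑ x ∈ hDfin.toFinset, (Nn.filter fun y => y ⤳ x).card := by
    simpa using Finset.sum_le_sum hcover
  have h4 := Finset.sum_le_sum hlb
  rw [← h2, ← Nat.cast_sum, hswap, Nat.cast_le] at h4
  have heach : ∀ y ∈ Nn, ((f y).card : ℤ) =
      degOn k N (Scheme.IdealSheafData.vanishingIdeal ⟨closure {y}, isClosed_closure⟩) :=
    (Finset.sum_eq_sum_iff_of_le hlb).1 (le_antisymm (Finset.sum_le_sum hlb) (by
      rw [← h2, ← Nat.cast_sum, hswap]; exact_mod_cast h3))
  have hone : ∀ x ∈ hDfin.toFinset, (Nn.filter fun y => y ⤳ x).card = 1 := fun x hx =>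
    ((Finset.sum_eq_sum_iff_of_le hcover).1 (by simpa using le_antisymm h3 h4) x hx).symm
  refine ⟨hNinv, htot, fun {J A} hAcl hJA hgA => ?_⟩
  rw [degOn_eq_sum hd hgen hNinv hJA Nn hNn, ← Finset.sum_congr rfl fun y hy => heach y (Finset.mem_filter.1 hy).1,
    ← Nat.cast_sum]
  refine congrArg Nat.cast ?_
  simp only [f, Finset.card_filter]
  rw [Finset.sum_comm, Nat.card_eq_card_finite_toFinset (hDfin.inter_of_left A)]
  have hterm : ∀ x ∈ hDfin.toFinset,
      (∑ y ∈ Nn.filter (fun y => y ∈ A), if y ⤳ x then 1 else 0) = if x ∈ A then 1 else 0 := by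
    intro x hx
    rw [← Finset.card_filter, Finset.filter_filter]
    split_ifs with hxA
    · refine le_antisymm ((Finset.card_le_card fun y hy => ?_).trans (hone x hx).le) ?_
      · obtain ⟨hy1, -, hy2⟩ := Finset.mem_filter.1 hy
        exact Finset.mem_filter.2 ⟨hy1, hy2⟩
      · obtain ⟨w, hwA, hw, hwx⟩ := hgA x hxA
        exact Finset.card_pos.2 ⟨w, Finset.mem_filter.2 ⟨(hNn w).2 hw, hwA, hwx⟩⟩
    · rw [Finset.card_eq_zero, Finset.filter_eq_empty_iff]
      rintro y - ⟨hyA, hyx⟩
      exact hxA (hyx.mem_closed hAcl hyA)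
  rw [Finset.sum_congr rfl hterm, ← Finset.card_filter]
  congr 1
  ext x
  simp

end Groth.L21.CurveAdj
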