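import Groth.Agent.L21.CurveAdj.NoTail
import Groth.Agent.L21.RedCurve.GG
import Groth.Agent.L22.CurveDeg.TensorDeg
import Groth.Agent.L18.AmplePull
import Groth.Agent.L21.RR.GeomGenusZero
import Groth.Agent.L21.RR.Mul

/-!
Powers of the dualizing module; genus one.
-/

set_option autoImplicit false
set_option backward.isDefEq.respectTransparency false
set_option backward.isDefEq.respectTransparency.types false
set_option linter.style.haveILetI false
universe u

open CategoryTheory CategoryTheory.Limits AlgebraicGeometry Opposite TopologicalSpace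

noncomputable section

namespace Groth.L21.CurveAdj

open Groth.L21.RR (h st e0 oneSec SuppClosed finite_HH')
open Groth.L22.CurveDeg (phi)
open Groth.L16.CohSupport (len)
open Groth.L21.CurveGor (Setup)
open Groth.L21.RedCurve (exists_subcurve)

variable {X : Scheme.{u}} {k : Type u} [Field k] [X.Over (Spec (CommRingCat.of k))]
  [IsProper (X ↘ Spec (CommRingCat.of k))]

omit [X.Over (Spec (CommRingCat.of k))] [IsProper (X ↘ Spec (CommRingCat.of k))] in
theorem st_zero' {M N : X.Modules} (x : X) (v : M.presheaf.stalk x) : st (0 : M ⟶ N) x v = 0 := by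
  change (Groth.L21.Mod.stalkF X x).map (0 : M ⟶ N) v = 0
  rw [Functor.map_zero]
  rfl

omit [X.Over (Spec (CommRingCat.of k))] [IsProper (X ↘ Spec (CommRingCat.of k))] in
theorem mem_genLocus_iff' {L : X.Modules} (hL : PicF.IsInvertible L) (φ : Coh.structureModule X ⟶ L) (x : X) :
    x ∈ CohB1.genLocus L φ ↔ Function.Surjective (st φ x) := by
  obtain ⟨W, ε, hx, hε⟩ := Groth.L18.Frame.exists_frame hL x
  obtain ⟨b, hb, hb'⟩ := Groth.L21.RR.exists_coeff_secOf hε φ
  rw [Groth.L21.RR.surjective_st_iff (Groth.L21.RR.bijective_germ_frame hε hx) φ (hb' x hx), ← X.mem_basicOpen b x hx,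
    ← Groth.L18.GenLoc.genLocus_inf_eq φ hε hb]
  exact ⟨fun h => ⟨h, hx⟩, fun h => h.1⟩

theorem gen_of_dim_one (J : X.IdealSheafData) [ConnectedSpace J.subscheme] [IsLocallyNoetherian X]
    (hJ1 : topologicalKrullDim J.subscheme = 1) :
    ∀ y ∈ (J.support : Set X), ∃ w ∈ (J.support : Set X), ¬ IsClosed ({w} : Set X) ∧ w ⤳ y := by
  haveI : IsLocallyNoetherian J.subscheme := LocallyOfFiniteType.isLocallyNoetherian J.subschemeι
  intro y hy
  rw [← Scheme.IdealSheafData.range_subschemeι] at hy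
  obtain ⟨z, rfl⟩ := hy
  obtain ⟨w, hw, hwz⟩ := Groth.L21.CurveDual.exists_nonclosed_gen hJ1 z
  refine ⟨J.subschemeι w, ?_, fun hc => hw ?_, hwz.map J.subschemeι.continuous⟩
  · rw [← Scheme.IdealSheafData.range_subschemeι]; exact ⟨w, rfl⟩
  · have := hc.preimage J.subschemeι.continuous
    rwa [← Set.image_singleton (f := J.subschemeι),
      Set.preimage_image_eq _ J.subschemeι.isClosedEmbedding.injective] at this

theorem h0_eq_one_of_connected [IsAlgClosed k] [AlgebraicGeometry.IsReduced X] [ConnectedSpace X] :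
    h k 0 (Coh.structureModule X) = 1 := by
  have hint : ((Scheme.ΓSpecIso (CommRingCat.of k)).inv ≫ (X ↘ Spec (CommRingCat.of k)).appTop).hom.IsIntegral :=
    RingHom.isIntegral_respectsIso.2 (e := (Scheme.ΓSpecIso _).symm.commRingCatIsoToRingEquiv) _
      (isIntegral_appTop_of_universallyClosed _)
  letI := (isField_top k (Y := X)).toField
  have hbij : Function.Bijective ((Scheme.ΓSpecIso (CommRingCat.of k)).inv ≫ (X ↘ Spec (CommRingCat.of k)).appTop).hom :=
    IsAlgClosed.ringHom_bijective_of_isIntegral _ hint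
  have hne : (e0 (Coh.structureModule X)).symm (oneSec X) ≠ 0 := fun h => by
    have h1 : oneSec X = 0 := (e0 _).symm.injective (h.trans (map_zero _).symm)
    exact one_ne_zero (α := Γ(X, ⊤)) h1
  refine finrank_eq_one _ hne fun w => ?_
  obtain ⟨c, hc⟩ := hbij.2 (show Γ(X, ⊤) from e0 (Coh.structureModule X) w)
  refine ⟨c, (e0 (Coh.structureModule X)).injective ?_⟩
  rw [Groth.L21.RR.e0_smul, AddEquiv.apply_symm_apply]
  exact (mul_one (M := Γ(X, ⊤)) _).trans hc

theorem deg_tensorPow (hd : topologicalKrullDim X ≤ 1) {L : X.Modules} (hL : PicF.IsInvertible L) :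
    ∀ n : ℕ, Curv2.deg k X (CohB1.tensorPow L n) 1 = n * Curv2.deg k X L 1
  | 0 => by
    show Curv2.deg k X (Coh.structureModule X) 1 = _
    rw [Curv2.deg]; push_cast; ring
  | n + 1 => by
    show Curv2.deg k X (CohB1.tensorMod (CohB1.tensorPow L n) L) 1 = _
    have h1 := Groth.L22.CurveDeg.deg_tensor_locFree k hd
      (Groth.L12.FinCov.isFinLocFreeOfRank_one_of_isInvertible (Groth.L18.Ample.isInvertible_tensorPow hL n))
      (Groth.L12.FinCov.isFinLocFreeOfRank_one_of_isInvertible hL)
    rw [mul_one] at h1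
    rw [h1, deg_tensorPow hd hL n]
    push_cast
    ring

variable [AlgebraicGeometry.IsReduced X]

/-- No `H¹` when the degree is at least twice the genus on all subcurves. -/
theorem subsingleton_h1_of_deg_subcurves (hd : topologicalKrullDim X ≤ 1) {L : X.Modules}
    (hL : PicF.IsInvertible L)
    (hdeg : ∀ J : X.IdealSheafData, AlgebraicGeometry.IsReduced J.subscheme → ConnectedSpace J.subscheme →
      topologicalKrullDim J.subscheme = 1 →
      2 * (@h J.subscheme k _ ⟨J.subschemeι ≫ (X ↘ Spec (CommRingCat.of k))⟩ 1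
          (Coh.structureModule J.subscheme) : ℤ) ≤
        @Curv2.deg k _ J.subscheme ⟨J.subschemeι ≫ (X ↘ Spec (CommRingCat.of k))⟩
          ((Scheme.Modules.pullback J.subschemeι).obj L) 1) :
    Subsingleton (Coh.HH X L 1) := by
  haveI := Groth.L21.RR.isNoetherian_of_proper (X := X) k
  have hLc := Groth.L16.ProperFinite.isCoh_of_isInvertible hL
  by_contra hns
  have hu : SuppClosed (cokernel (𝟙 L)) := fun x _ =>
    (Groth.L21.Mod.isZero_iff_stalk_subsingleton _).1 (isZero_cokernel_of_epi (𝟙 L)) x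
  obtain ⟨J, C, χ, hred, hconn, hdim, -, hχ, hχ0, hb⟩ :=
    exists_subcurve k hd hL hLc (𝟙 L) hu (not_subsingleton_iff_nontrivial.1 hns)
  have hz : IsZero ((Scheme.Modules.pushforward J.subschemeι).obj C) := by
    rw [Category.id_comp] at hχ0
    haveI := hχ
    rw [IsZero.iff_id_eq_zero, ← cancel_epi χ, hχ0, zero_comp, zero_comp]
  have h0 : h k 0 ((Scheme.Modules.pushforward J.subschemeι).obj C) = 0 :=
    Groth.L21.RR.h_eq_zero_of_subsingleton k (subsingleton_of_forall_eq 0 fun t => by
      rw [← Groth.L16.CohLinear.hmap_id 0 t, (IsZero.iff_id_eq_zero _).1 hz, Groth.L21.RR.hmap_zero])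
  letI : J.subscheme.Over (Spec (CommRingCat.of k)) := ⟨J.subschemeι ≫ (X ↘ Spec (CommRingCat.of k))⟩
  haveI : IsProper (J.subscheme ↘ Spec (CommRingCat.of k)) :=
    inferInstanceAs (IsProper (J.subschemeι ≫ (X ↘ Spec (CommRingCat.of k))))
  haveI := Groth.L21.RR.isNoetherian_of_proper (X := J.subscheme) k
  haveI := finite_HH' k (Groth.L16.CohClosedPush.isCoh_structure (X := J.subscheme)) 0
  haveI : Nonempty (⊤ : J.subscheme.Opens) := ⟨⟨hconn.toNonempty.some, trivial⟩⟩
  haveI : Nontrivial (Coh.HH J.subscheme (Coh.structureModule J.subscheme) 0) :=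
    (e0 (Coh.structureModule J.subscheme)).toEquiv.nontrivial (β := Γ(J.subscheme, ⊤))
  have hpos : 0 < h k 0 (Coh.structureModule J.subscheme) := Module.finrank_pos
  have h1 := hdeg J hred hconn hdim
  rw [h0, Groth.L21.RR.euler_eq k hdim.le] at hb
  omega

variable [ConnectedSpace X] {ω : X.Modules} {t : Coh.HH X ω 1 →ₗ[k] k} (S : Setup k X ω t)
  (hgenX : ∀ z : X, ∃ w, ¬ IsClosed ({w} : Set X) ∧ w ⤳ z) (hinv : PicF.IsInvertible ω)

include S hgenX hinv in
/-- `ω^i`, `i ≥ 2`: no `H¹` and globally generated, in genus at least two. -/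
theorem powers (hd1 : h k 0 (Coh.structureModule X) = 1) (hg : 2 ≤ h k 1 (Coh.structureModule X))
    (hss : ∀ J : X.IdealSheafData, AlgebraicGeometry.IsReduced J.subscheme → ConnectedSpace J.subscheme →
      topologicalKrullDim J.subscheme = 1 → (J.support : Set X) ≠ Set.univ →
      0 ≤ @Curv2.deg k _ J.subscheme ⟨J.subschemeι ≫ (X ↘ Spec (CommRingCat.of k))⟩
        ((Scheme.Modules.pullback J.subschemeι).obj ω) 1)
    (i : ℕ) (hi : 2 ≤ i) :
    Subsingleton (Coh.HH X (CohB1.tensorPow ω i) 1) ∧ Curv2.IsGloballyGenerated (CohB1.tensorPow ω i) := by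
  haveI := Groth.L21.RR.isNoetherian_of_proper (X := X) k
  have hL := Groth.L18.Ample.isInvertible_tensorPow hinv i
  have hdeg : ∀ J : X.IdealSheafData, AlgebraicGeometry.IsReduced J.subscheme → ConnectedSpace J.subscheme →
      topologicalKrullDim J.subscheme = 1 →
      2 * (@h J.subscheme k _ ⟨J.subschemeι ≫ (X ↘ Spec (CommRingCat.of k))⟩ 1
          (Coh.structureModule J.subscheme) : ℤ) ≤
        @Curv2.deg k _ J.subscheme ⟨J.subschemeι ≫ (X ↘ Spec (CommRingCat.of k))⟩
          ((Scheme.Modules.pullback J.subschemeι).obj (CohB1.tensorPow ω i)) 1 := by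
    intro J hred hconn hdim
    haveI := hred
    haveI := hconn
    have hgen := gen_of_dim_one J hdim
    obtain ⟨d, a, m, ⟨hd, ha, -, hdegJ⟩, hqd, hqa, -, hdpos, ⟨a', ha'⟩, ⟨m', hm'⟩, hmpos, hcne, -⟩ :=
      subcurve S hgenX hinv J hgen
    letI : J.subscheme.Over (Spec (CommRingCat.of k)) := ⟨J.subschemeι ≫ (X ↘ Spec (CommRingCat.of k))⟩
    haveI : IsProper (J.subscheme ↘ Spec (CommRingCat.of k)) :=
      inferInstanceAs (IsProper (J.subschemeι ≫ (X ↘ Spec (CommRingCat.of k))))
    rw [ha, Groth.L21.RR.deg_congr k (Groth.L18.Ample.pullPow J.subschemeι ω i),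
      deg_tensorPow hdim.le (Groth.L18.Ample.isInvertible_pullback J.subschemeι hinv) i, hdegJ]
    have h2a : 2 * (a : ℤ) ≤ 2 * (-2 * (d : ℤ) + 2 * a + m) ∧ 0 ≤ -2 * (d : ℤ) + 2 * a + m := by
      by_cases hu : (J.support : Set X) = Set.univ
      · have hV := van_of_isReduced S.hd J hgen
        rw [h_quotMod_of_univ (k := k) S.hd hgenX J hV hu 0, hd1] at hqd
        rw [h_quotMod_of_univ (k := k) S.hd hgenX J hV hu 1] at hqa
        omega
      · have h0 := hss J hred hconn hdim hu
        rw [hdegJ] at h0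
        refine ⟨?_, h0⟩
        have hmp := hmpos (hcne hu)
        have hdm : d ≤ m := hm' ▸ Nat.le_mul_of_pos_right d (Nat.pos_of_mul_pos_left (hm' ▸ hmp))
        rcases Nat.eq_zero_or_pos a' with rfl | hpos
        · rw [mul_zero] at ha'
          subst ha'
          omega
        · have : d ≤ a := ha' ▸ Nat.le_mul_of_pos_right d hpos
          omega
    exact h2a.1.trans (mul_le_mul_of_nonneg_right (by exact_mod_cast hi) h2a.2)
  exact ⟨subsingleton_h1_of_deg_subcurves S.hd hL hdeg,
    Groth.L21.RedCurve.isGloballyGenerated_of_deg_subcurves k S.hd hL hdeg⟩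

include S hgenX hinv in
/-- Genus one without rational tails: the dualizing module is trivial. -/
theorem nonempty_iso_structure (hd1 : h k 0 (Coh.structureModule X) = 1)
    (hg : h k 1 (Coh.structureModule X) = 1)
    (hnt : ∀ (C : Set X) (hC : C ∈ irreducibleComponents (X : Type u)), ¬ Curv2.IsRationalTail X C hC) :
    Nonempty (ω ≅ Coh.structureModule X) := by
  classical
  haveI := Groth.L21.RR.isNoetherian_of_proper (X := X) k
  haveI : X.IsSeparated := ⟨by rw [← Limits.terminal.comp_from (X ↘ Spec (CommRingCat.of k))]; infer_instance⟩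
  have hO := Groth.L16.CohClosedPush.isCoh_structure (X := X)
  have hE := Groth.L12.FinCov.isFinLocFreeOfRank_one_of_isInvertible hinv
  let I : X → X.IdealSheafData := fun y =>
    Scheme.IdealSheafData.vanishingIdeal ⟨closure {y}, isClosed_closure⟩
  have hcomp : ∀ y, ¬ IsClosed ({y} : Set X) → closure {y} ∈ irreducibleComponents (X : Type u) := by
    intro y hy
    refine ⟨isIrreducible_singleton.closure, fun Z hZ hle => ?_⟩
    obtain ⟨η, hη⟩ := QuasiSober.sober hZ.closure isClosed_closure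
    have hηy : η ⤳ y := hη.specializes (subset_closure (hle (subset_closure rfl)))
    have e : η = y := Groth.L21.RedCurve.maximal_of_not_isClosed S.hd hy η hηy
    subst e
    exact subset_closure.trans hη.def.ge
  let N := (Groth.L22.CurveDeg.finite_nonclosed S.hd).toFinset
  have hN : ∀ x, x ∈ N ↔ ¬ IsClosed ({x} : Set X) := fun x => Set.Finite.mem_toFinset _
  have hnn : ∀ y, ¬ IsClosed ({y} : Set X) → 0 ≤ phi k ω 1 (ClSub.quotMod (I y)) ∧
      ∀ hC : closure {y} ∈ irreducibleComponents (X : Type u),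
        @Curv2.deg k _ (IC (closure {y}) hC).subscheme ⟨(IC (closure {y}) hC).subschemeι ≫ (X ↘ Spec (CommRingCat.of k))⟩
          ((Scheme.Modules.pullback (IC (closure {y}) hC).subschemeι).obj ω) 1 = phi k ω 1 (ClSub.quotMod (I y)) := by
    intro y hy
    obtain ⟨hr, hc, hgenC⟩ := component hgenX (closure {y}) (hcomp y hy)
    haveI := hr
    haveI := hc
    obtain ⟨d, a, m, ⟨-, -, he, hdeg⟩, hqd, hqa, hqm, -⟩ := subcurve S hgenX hinv (IC _ (hcomp y hy)) hgenC
    have hv := van_of_isReduced S.hd (IC _ (hcomp y hy)) hgenC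
    have hphi : phi k ω 1 (ClSub.quotMod (I y)) = -2 * (d : ℤ) + 2 * a + m := by
      change phi k ω 1 (ClSub.quotMod (IC _ (hcomp y hy))) = _
      rw [phi_quotMod S hgenX hinv hv (van_ker_compl hgenX _ (IC _ (hcomp y hy)).support.isClosed),
        Groth.L21.RR.euler_eq k S.hd, hqm, hqd, hqa]
      ring
    refine ⟨?_, fun _ => by rw [hphi]; exact hdeg⟩
    by_cases hu : ((IC _ (hcomp y hy)).support : Set X) = Set.univ
    · rw [h_quotMod_of_univ (k := k) S.hd hgenX _ hv hu 0, hd1] at hqd
      rw [h_quotMod_of_univ (k := k) S.hd hgenX _ hv hu 1, hg] at hqa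
      omega
    · have hb := genus_le_deg S hgenX hinv hnt (IC _ (hcomp y hy)) hgenC hu
      rw [hdeg] at hb
      rw [hphi]
      omega
  have hvanC : ∀ y, ¬ IsClosed ({y} : Set X) → Van (I y) (closure {y}) := by
    intro y hy
    obtain ⟨hr, -, hgC⟩ := component hgenX (closure {y}) (hcomp y hy)
    haveI := hr
    have := van_of_isReduced S.hd _ hgC
    rwa [coe_support_IC] at this
  have hsum : phi k ω 1 (Coh.structureModule X) =
      ∑ y ∈ N, ((len y (Coh.structureModule X)).toNat : ℤ) * phi k ω 1 (ClSub.quotMod (I y)) := by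
    refine Groth.L22.CurveDeg.phi_eq_sum k S.hd hE N hN (fun y => ClSub.quotMod (I y)) (fun y hy => ?_) hO
    refine ⟨Groth.L21.RR.isCoh_quotMod _, fun z hz => ?_, ?_⟩
    · by_contra hzc
      exact hz (Groth.L21.RR.subsingleton_stalk_quotMod _ fun hh =>
        hzc ((Scheme.IdealSheafData.coe_support_vanishingIdeal _).le hh))
    · rw [len_quotMod S.hd (hvanC y ((hN y).1 hy)) ((hN y).1 hy),
        if_pos (show y ∈ closure ({y} : Set X) from subset_closure rfl)]
  have hzero : phi k ω 1 (Coh.structureModule X) = 0 := by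
    rw [Groth.L22.CurveDeg.phi_structure, Curv2.deg, Groth.L21.CurveDual.euler_eq_neg S.hd S.hω S.assO,
      Groth.L21.RR.euler_eq k S.hd, hd1, hg]
    simp
  have hlen : ∀ y, ¬ IsClosed ({y} : Set X) → len y (Coh.structureModule X) = 1 := fun y hy => by
    let e₁ : X.presheaf.stalk y ≃ₗ[X.presheaf.stalk y] (Coh.structureModule X).presheaf.stalk y :=
      LinearEquiv.ofBijective (LinearMap.toSpanSingleton _ _ (Groth.L21.RR.one X y))
        (Groth.L21.RR.bijective_smul_one y)
    change Module.length (X.presheaf.stalk y) ((Coh.structureModule X).presheaf.stalk y) = 1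
    rw [← e₁.length_eq, Module.length_eq_one_iff]
    letI := (Groth.L21.RedCurve.stalk_isField S.hd hy).toField
    infer_instance
  rw [hzero] at hsum
  have heach : ∀ y ∈ N, phi k ω 1 (ClSub.quotMod (I y)) = 0 := fun y hy => by
    have h1 := (Finset.sum_eq_zero_iff_of_nonneg fun z hz =>
      mul_nonneg (Int.natCast_nonneg _) (hnn z ((hN z).1 hz)).1).1 hsum.symm y hy
    rwa [hlen y ((hN y).1 hy), ENat.toNat_one, Nat.cast_one, one_mul] at h1
  -- a section
  obtain ⟨s, hs⟩ : ∃ s : Coh.structureModule X ⟶ ω, s ≠ 0 := by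
    refine Groth.L21.CurveDual.exists_ne_zero_of_h1 S.hω hO.1 fun hsub => ?_
    rw [Groth.L21.RR.h_eq_zero_of_subsingleton k hsub] at hg
    exact absurd hg (by norm_num)
  set G := CohB1.genLocus ω s with hG
  have hdich : ∀ y, ¬ IsClosed ({y} : Set X) → closure {y} ⊆ (G : Set X) ∨ closure {y} ⊆ (G : Set X)ᶜ := by
    intro y hy
    obtain ⟨hr, hc, -⟩ := component hgenX (closure {y}) (hcomp y hy)
    haveI := hr
    set J := IC (closure {y}) (hcomp y hy) with hJ
    have hrange : Set.range J.subschemeι = closure {y} := by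
      rw [Scheme.IdealSheafData.range_subschemeι, hJ, coe_support_IC]
    letI : J.subscheme.Over (Spec (CommRingCat.of k)) := ⟨J.subschemeι ≫ (X ↘ Spec (CommRingCat.of k))⟩
    haveI : IsProper (J.subscheme ↘ Spec (CommRingCat.of k)) :=
      inferInstanceAs (IsProper (J.subschemeι ≫ (X ↘ Spec (CommRingCat.of k))))
    haveI : IrreducibleSpace J.subscheme := by
      have hirr : IsIrreducible (Set.range J.subschemeι) := hrange ▸ isIrreducible_singleton.closure
      haveI : Nonempty J.subscheme := Set.range_nonempty_iff_nonempty.1 hirr.nonempty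
      haveI : PreirreducibleSpace J.subscheme := ⟨fun u v hu hv ⟨a, _, ha⟩ ⟨b, _, hb⟩ => by
        obtain ⟨U, hU, rfl⟩ := J.subschemeι.isClosedEmbedding.isInducing.isOpen_iff.1 hu
        obtain ⟨V, hV, rfl⟩ := J.subschemeι.isClosedEmbedding.isInducing.isOpen_iff.1 hv
        obtain ⟨x, ⟨c, rfl⟩, hxU, hxV⟩ := hirr.isPreirreducible U V hU hV ⟨_, ⟨a, rfl⟩, ha⟩ ⟨_, ⟨b, rfl⟩, hb⟩
        exact ⟨c, trivial, hxU, hxV⟩⟩
      exact ⟨inferInstance⟩
    haveI : IsIntegral J.subscheme := isIntegral_of_irreducibleSpace_of_isReduced _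
    have hdJ : topologicalKrullDim J.subscheme ≤ 1 :=
      J.subschemeι.isClosedEmbedding.isInducing.topologicalKrullDim_le.trans S.hd
    have hLY := Groth.L18.Ample.isInvertible_pullback J.subschemeι hinv
    have hgl := Groth.L18.Ample.genLocus_pullHom J.subschemeι hinv s
    by_cases h0 : Groth.L18.Ample.pullHom J.subschemeι s = 0
    · right
      rintro z hz hzG
      obtain ⟨z', rfl⟩ := hrange.ge hz
      have h1 : z' ∈ CohB1.genLocus _ (Groth.L18.Ample.pullHom J.subschemeι s) := by rw [hgl]; exact hzG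
      rw [mem_genLocus_iff' hLY] at h1
      obtain ⟨e, he⟩ := Groth.L21.RR.exists_frame_stalk hLY z'
      obtain ⟨v, hv⟩ := h1 e
      rw [h0] at hv
      have he0 : e = 0 := hv.symm.trans (st_zero' z' v)
      exact one_ne_zero (he.1 (show (1 : J.subscheme.presheaf.stalk z') • e = (0 : J.subscheme.presheaf.stalk z') • e by
        rw [he0, smul_zero, smul_zero]))
    · left
      obtain ⟨hadd, hiso⟩ := Groth.L22.CurveDeg.deg_add k hdJ
        (Groth.L18.Ample.isInvertible_structureModule J.subscheme) hLY h0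
      have hdeg0 : Curv2.deg k J.subscheme ((Scheme.Modules.pullback J.subschemeι).obj ω) 1 = 0 :=
        ((hnn y hy).2 (hcomp y hy)).trans (heach y ((hN y).2 hy))
      rw [hdeg0, Groth.L22.CurveDeg.deg_structure] at hadd
      haveI := hiso (by omega)
      intro z hz
      obtain ⟨z', rfl⟩ := hrange.ge hz
      have h1 : z' ∈ CohB1.genLocus _ (Groth.L18.Ample.pullHom J.subschemeι s) :=
        (mem_genLocus_iff' hLY _ z').2
          ((Groth.L21.Mod.isIso_iff_stalk_bijective _).1 inferInstance z').2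
      rw [hgl] at h1
      exact h1
  have hclosed : IsClosed (G : Set X) := by
    have : (G : Set X) = ⋃ y ∈ N.filter (fun y => y ∈ G), closure {y} := by
      ext z
      simp only [Set.mem_iUnion, Finset.mem_filter]
      refine ⟨fun hz => ?_, fun ⟨y, ⟨hyN, hyG⟩, hz⟩ => ?_⟩
      · obtain ⟨w, hw, hwz⟩ := hgenX z
        exact ⟨w, ⟨(hN w).2 hw, hwz.mem_open G.2 hz⟩, specializes_iff_mem_closure.1 hwz⟩
      · exact (hdich y ((hN y).1 hyN)).resolve_right (fun h => h (subset_closure rfl) hyG) hz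
    rw [this]
    exact isClosed_biUnion_finset fun y _ => isClosed_closure
  have hne : (G : Set X).Nonempty := by
    by_contra hemp
    refine hs (Groth.L21.RedCurve.hom_eq_zero hgenX hinv s fun w hw v => ?_)
    by_contra hv
    refine hemp ⟨w, (mem_genLocus_iff' hinv s w).2 fun u' => ?_⟩
    obtain ⟨e, he⟩ := Groth.L21.RR.exists_frame_stalk hinv w
    obtain ⟨a, ha⟩ := he.2 (st s w v)
    obtain ⟨b, hb⟩ := he.2 u'
    dsimp only at ha hb
    obtain ⟨c, hc⟩ := (Groth.L21.RedCurve.stalk_isField S.hd hw).mul_inv_cancel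
      (show a ≠ 0 from fun h => hv (by rw [← ha, h, zero_smul]))
    exact ⟨(b * c) • v, by rw [map_smul, ← ha, smul_smul, mul_assoc, mul_comm c, hc, mul_one, hb]⟩
  have huniv : (G : Set X) = Set.univ := IsClopen.eq_univ ⟨hclosed, G.2⟩ hne
  haveI : IsIso s := (Groth.L21.Mod.isIso_iff_stalk_bijective s).2 fun x => by
    have hsur : Function.Surjective (st s x) :=
      (mem_genLocus_iff' hinv s x).1 (huniv.ge (Set.mem_univ x))
    obtain ⟨e, he⟩ := Groth.L21.RR.exists_frame_stalk hinv x
    let eω := LinearEquiv.ofBijective (LinearMap.toSpanSingleton _ _ e) he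
    let eO : X.presheaf.stalk x ≃ₗ[X.presheaf.stalk x] (Coh.structureModule X).presheaf.stalk x :=
      LinearEquiv.ofBijective (LinearMap.toSpanSingleton _ _ (Groth.L21.RR.one X x))
        (Groth.L21.RR.bijective_smul_one x)
    have hinj := OrzechProperty.injective_of_surjective_endomorphism
      (eω.symm.toLinearMap ∘ₗ st s x ∘ₗ eO.toLinearMap) (eω.symm.surjective.comp (hsur.comp eO.surjective))
    exact ⟨fun p q hpq => eO.symm.injective (hinj (show eω.symm (st s x (eO (eO.symm p))) =
      eω.symm (st s x (eO (eO.symm q))) by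
        rw [eO.apply_symm_apply, eO.apply_symm_apply]; exact congrArg _ hpq)), hsur⟩
  exact ⟨(asIso s).symm⟩

end Groth.L21.CurveAdj

namespace Groth.L21.CurveAdj

/-- The setup of a reduced connected curve. -/
theorem setup_of_reduced {X : Scheme.{u}} {k : Type u} [Field k] [X.Over (Spec (CommRingCat.of k))]
    [IsProper (X ↘ Spec (CommRingCat.of k))] [ConnectedSpace X] (hdim : topologicalKrullDim X = 1)
    {ω : X.Modules} {t : Coh.HH X ω 1 →ₗ[k] k} (hω : Canon.IsRDualOver k X 1 ω t) :
    (∀ z : X, ∃ w, ¬ IsClosed ({w} : Set X) ∧ w ⤳ z) ∧ Groth.L21.CurveGor.Setup k X ω t := by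
  haveI := Groth.L21.RR.isNoetherian_of_proper (X := X) k
  have hgen : ∀ z : X, ∃ w, ¬ IsClosed ({w} : Set X) ∧ w ⤳ z := Groth.L21.CurveDual.exists_nonclosed_gen hdim
  have hcl : Groth.L21.Nodal.CurveLike X := by
    refine ⟨fun a b c hab hbc => ?_, fun x hx => ?_⟩
    · exact Groth.L21.RR.Top.spec_of_dim_le_one (X := X.toTopCat) hdim.le a b c hab hbc
    · obtain ⟨w, hw, hwx⟩ := hgen x
      exact ⟨w, fun e => hw (e ▸ hx), hwx⟩
  refine ⟨hgen, { hd := hdim.le, hω := hω, hnf := ?_, hopen := ?_ }⟩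
  · exact fun x hx => Groth.L21.Nodal.not_isField_stalk_of_curveLike hcl x hx
  · intro x hx ho
    obtain ⟨w, hw, hwx⟩ := hgen x
    exact hw ((hwx.mem_open ho rfl : w = x) ▸ hx)

end Groth.L21.CurveAdj
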