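import Groth.Agent.L21.CurveAdj.Powers
import Groth.Agent.S7642

/-!
Degrees on subcurves of reduced Gorenstein curves: additivity, ampleness, balanced modules.
-/

set_option autoImplicit false
set_option backward.isDefEq.respectTransparency false
set_option backward.isDefEq.respectTransparency.types false
set_option linter.style.haveILetI false
universe u

open CategoryTheory CategoryTheory.Limits AlgebraicGeometry Opposite TopologicalSpace

noncomputable section

namespace Groth.L21.CurveAdj

open Groth.L21.RR (h st e0 oneSec SuppClosed finite_HH')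
open Groth.L22.CurveDeg (phi)
open Groth.L16.CohSupport (len)
open Groth.L21.CurveGor (Setup)
open Groth.L21.RedCurve (exists_subcurve)

variable {X : Scheme.{u}}

/-- Degree on a closed subscheme. -/
abbrev degOn (k : Type u) [Field k] [X.Over (Spec (CommRingCat.of k))] (L : X.Modules) (J : X.IdealSheafData) : ℤ :=
  @Curv2.deg k _ J.subscheme ⟨J.subschemeι ≫ (X ↘ Spec (CommRingCat.of k))⟩
    ((Scheme.Modules.pullback J.subschemeι).obj L) 1

/-- The reduced closure of the complement. -/
abbrev complV (J : X.IdealSheafData) : X.IdealSheafData :=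
  Scheme.IdealSheafData.vanishingIdeal ⟨closure ((J.support : Set X)ᶜ), isClosed_closure⟩

theorem Van.unique {I J : X.IdealSheafData} {A : Set X} (hI : Van I A) (hJ : Van J A) : I = J :=
  Scheme.IdealSheafData.ext (funext fun V => Ideal.ext fun r => (hI V.1 V.2 r).trans (hJ V.1 V.2 r).symm)

theorem Van.congr {J : X.IdealSheafData} {A B : Set X} (hJ : Van J A)
    (hAB : ∀ w, ¬ IsClosed ({w} : Set X) → (w ∈ A ↔ w ∈ B)) : Van J B := fun V hV r =>
  (hJ V hV r).trans ⟨fun h w hw hn hB => h w hw hn ((hAB w hn).2 hB), fun h w hw hn hA => h w hw hn ((hAB w hn).1 hA)⟩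

theorem complV_eq_compl [AlgebraicGeometry.IsNoetherian X] [AlgebraicGeometry.IsReduced X]
    (hd : topologicalKrullDim X ≤ 1) (hgen : ∀ z : X, ∃ w, ¬ IsClosed ({w} : Set X) ∧ w ⤳ z)
    (J : X.IdealSheafData) : complV J = compl J := by
  let T : Set X := {w | ¬ IsClosed ({w} : Set X) ∧ w ∉ (J.support : Set X)}
  have hT : T.Finite := (Groth.L22.CurveDeg.finite_nonclosed hd).subset fun w hw => hw.1
  have hsub : closure ((J.support : Set X)ᶜ) ⊆ ⋃ w ∈ T, closure {w} := by
    refine closure_minimal (fun z hz => ?_) (hT.isClosed_biUnion fun w _ => isClosed_closure)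
    obtain ⟨w, hw, hwz⟩ := hgen z
    exact Set.mem_biUnion (show w ∈ T from ⟨hw, fun h => hz (hwz.mem_closed J.support.isClosed h)⟩)
      (specializes_iff_mem_closure.1 hwz)
  haveI : AlgebraicGeometry.IsReduced (complV J).subscheme := Groth.L18.isReduced_vanishingIdeal_subscheme _
  have hv : Van (complV J) ((complV J).support : Set X) := van_of_isReduced hd _ fun y hy => by
    rw [Scheme.IdealSheafData.coe_support_vanishingIdeal] at hy ⊢
    obtain ⟨w, hw, hwy⟩ := Set.mem_iUnion₂.1 (hsub hy)
    exact ⟨w, subset_closure hw.2, hw.1, specializes_iff_mem_closure.2 hwy⟩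
  refine (hv.congr fun w hw => ?_).unique (van_ker_compl hgen _ J.support.isClosed)
  rw [Scheme.IdealSheafData.coe_support_vanishingIdeal]
  refine ⟨fun h => ?_, fun h => subset_closure h⟩
  obtain ⟨w', hw', hww'⟩ := Set.mem_iUnion₂.1 (hsub h)
  rw [Groth.L21.RedCurve.maximal_of_not_isClosed hd hw w' (specializes_iff_mem_closure.2 hww')] at hw'
  exact hw'.2

theorem closure_mem_components [AlgebraicGeometry.IsNoetherian X] (hd : topologicalKrullDim X ≤ 1) {y : X}
    (hy : ¬ IsClosed ({y} : Set X)) : closure {y} ∈ irreducibleComponents (X : Type u) := by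
  refine ⟨isIrreducible_singleton.closure, fun Z hZ hle => ?_⟩
  obtain ⟨η, hη⟩ := QuasiSober.sober hZ.closure isClosed_closure
  have hηy : η ⤳ y := hη.specializes (subset_closure (hle (subset_closure rfl)))
  have e : η = y := Groth.L21.RedCurve.maximal_of_not_isClosed hd hy η hηy
  subst e
  exact subset_closure.trans hη.def.ge

theorem isIntegral_IC (C : Set X) (hC : C ∈ irreducibleComponents (X : Type u)) :
    IsIntegral (IC C hC).subscheme := by
  haveI := Groth.L18.isReduced_vanishingIdeal_subscheme (⟨C, isClosed_of_mem_irreducibleComponents C hC⟩ : Closeds X)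
  haveI : AlgebraicGeometry.IsReduced (IC C hC).subscheme := this
  have hr : Set.range (IC C hC).subschemeι = C := by rw [Scheme.IdealSheafData.range_subschemeι, coe_support_IC]
  haveI : IrreducibleSpace (IC C hC).subscheme := by
    haveI : Nonempty (IC C hC).subscheme := Set.range_nonempty_iff_nonempty.1 (hr.symm ▸ hC.1.nonempty)
    haveI : PreirreducibleSpace (IC C hC).subscheme := ⟨fun u v hu hv ⟨a, _, ha⟩ ⟨b, _, hb⟩ => by
      obtain ⟨U, hU, rfl⟩ := (IC C hC).subschemeι.isClosedEmbedding.isInducing.isOpen_iff.1 hu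
      obtain ⟨V, hV, rfl⟩ := (IC C hC).subschemeι.isClosedEmbedding.isInducing.isOpen_iff.1 hv
      obtain ⟨x, hxC, hxU, hxV⟩ := hC.1.isPreirreducible U V hU hV ⟨_, hr.le ⟨a, rfl⟩, ha⟩ ⟨_, hr.le ⟨b, rfl⟩, hb⟩
      obtain ⟨c, rfl⟩ := hr.ge hxC
      exact ⟨c, trivial, hxU, hxV⟩⟩
    exact ⟨inferInstance⟩
  exact isIntegral_of_irreducibleSpace_of_isReduced _

theorem dim_component [AlgebraicGeometry.IsNoetherian X] (hd : topologicalKrullDim X ≤ 1)
    (hgen : ∀ z : X, ∃ w, ¬ IsClosed ({w} : Set X) ∧ w ⤳ z) (C : Set X)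
    (hC : C ∈ irreducibleComponents (X : Type u)) :
    topologicalKrullDim (IC C hC).subscheme = 1 ∧ topologicalKrullDim C = 1 := by
  haveI := isIntegral_IC C hC
  obtain ⟨-, -, hg⟩ := component hgen C hC
  have hr : Set.range (IC C hC).subschemeι = C := by rw [Scheme.IdealSheafData.range_subschemeι, coe_support_IC]
  have hdJ : topologicalKrullDim (IC C hC).subscheme ≤ 1 :=
    (IC C hC).subschemeι.isClosedEmbedding.isInducing.topologicalKrullDim_le.trans hd
  obtain ⟨x, hx⟩ := hC.1.nonempty
  obtain ⟨w, hw, hwn, -⟩ := hg x ((coe_support_IC C hC).ge hx)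
  rw [coe_support_IC] at hw
  obtain ⟨z, hz, hwz⟩ := Groth.L21.RR.exists_closed_specialization w
  have hzC : z ∈ C := hwz.mem_closed (isClosed_of_mem_irreducibleComponents C hC) hw
  obtain ⟨w', rfl⟩ := hr.ge hw
  obtain ⟨z', rfl⟩ := hr.ge hzC
  have hzne : z' ≠ genericPoint (IC C hC).subscheme := fun e => by
    have hz' : IsClosed ({z'} : Set (IC C hC).subscheme) := by
      have := hz.preimage (IC C hC).subschemeι.continuous
      rwa [← Set.image_singleton (f := (IC C hC).subschemeι),
        Set.preimage_image_eq _ (IC C hC).subschemeι.isClosedEmbedding.injective] at this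
    rw [e] at hz' hz
    have hu : closure {genericPoint (IC C hC).subscheme} = Set.univ := (genericPoint_spec _).def
    rw [hz'.closure_eq] at hu
    have : w' = genericPoint (IC C hC).subscheme := hu.ge (Set.mem_univ w')
    exact hwn (this ▸ hz)
  have h1 := Groth.L21.RR.dim_eq_one_of_ne hdJ hzne
  exact ⟨h1, (Groth.L22.SchemeDim.topologicalKrullDim_eq_of_isEmbedding
    (IC C hC).subschemeι.isClosedEmbedding.isEmbedding hr).trans h1⟩

variable {k : Type u} [Field k] [X.Over (Spec (CommRingCat.of k))] [IsProper (X ↘ Spec (CommRingCat.of k))]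

theorem degOn_eq_phi (L : X.Modules) (hL : PicF.IsInvertible L) (J : X.IdealSheafData) :
    degOn k L J = phi k L 1 (ClSub.quotMod J) := by
  letI : J.subscheme.Over (Spec (CommRingCat.of k)) := ⟨J.subschemeι ≫ (X ↘ Spec (CommRingCat.of k))⟩
  haveI := Groth.L21.RR.isNoetherian_of_proper (X := X) k
  haveI : IsProper (J.subscheme ↘ Spec (CommRingCat.of k)) :=
    inferInstanceAs (IsProper (J.subschemeι ≫ (X ↘ Spec (CommRingCat.of k))))
  haveI : X.IsSeparated := ⟨by rw [← Limits.terminal.comp_from (X ↘ Spec (CommRingCat.of k))]; infer_instance⟩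
  haveI : IsLocallyNoetherian J.subscheme := LocallyOfFiniteType.isLocallyNoetherian J.subschemeι
  have h1 := Groth.L22.CurveDeg.phi_push k J.subschemeι
    (show J.subschemeι ≫ (X ↘ Spec (CommRingCat.of k)) = J.subscheme ↘ Spec (CommRingCat.of k) from rfl)
    (Groth.L12.FinCov.isFinLocFreeOfRank_one_of_isInvertible hL) (Coh.structureModule J.subscheme)
    (Groth.L16.CohClosedPush.isCoh_structure (X := J.subscheme)).1
  change Curv2.deg k J.subscheme ((Scheme.Modules.pullback J.subschemeι).obj L) 1 = _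
  rw [← Groth.L22.CurveDeg.phi_structure k, ← h1]

variable [AlgebraicGeometry.IsReduced X]

open scoped Classical in
theorem degOn_eq_sum (hd : topologicalKrullDim X ≤ 1) (hgen : ∀ z : X, ∃ w, ¬ IsClosed ({w} : Set X) ∧ w ⤳ z)
    {L : X.Modules} (hL : PicF.IsInvertible L) {J : X.IdealSheafData} {A : Set X} (hJ : Van J A) (N : Finset X)
    (hN : ∀ x, x ∈ N ↔ ¬ IsClosed ({x} : Set X)) :
    degOn k L J = ∑ y ∈ N with y ∈ A,
      degOn k L (Scheme.IdealSheafData.vanishingIdeal ⟨closure {y}, isClosed_closure⟩) := by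
  haveI := Groth.L21.RR.isNoetherian_of_proper (X := X) k
  have hvanC : ∀ y, ¬ IsClosed ({y} : Set X) →
      Van (Scheme.IdealSheafData.vanishingIdeal ⟨closure {y}, isClosed_closure⟩) (closure {y}) := by
    intro y hy
    obtain ⟨hr, -, hgC⟩ := component hgen (closure {y}) (closure_mem_components hd hy)
    haveI := hr
    have := van_of_isReduced hd _ hgC
    rwa [coe_support_IC] at this
  simp only [degOn_eq_phi L hL]
  rw [Groth.L22.CurveDeg.phi_eq_sum k hd (Groth.L12.FinCov.isFinLocFreeOfRank_one_of_isInvertible hL) N hN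
    (fun y => ClSub.quotMod (Scheme.IdealSheafData.vanishingIdeal ⟨closure {y}, isClosed_closure⟩))
    (fun y hy => ?_) (Groth.L21.RR.isCoh_quotMod J), Finset.sum_filter]
  · refine Finset.sum_congr rfl fun y hy => ?_
    rw [len_quotMod hd hJ ((hN y).1 hy)]
    split_ifs <;> simp
  · refine ⟨Groth.L21.RR.isCoh_quotMod _, fun z hz => ?_, ?_⟩
    · by_contra hzc
      exact hz (Groth.L21.RR.subsingleton_stalk_quotMod _ fun hh =>
        hzc ((Scheme.IdealSheafData.coe_support_vanishingIdeal _).le hh))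
    · rw [len_quotMod hd (hvanC y ((hN y).1 hy)) ((hN y).1 hy),
        if_pos (show y ∈ closure ({y} : Set X) from subset_closure rfl)]

/-- Ampleness by the components. -/
theorem isAmple_iff_degOn (hd : topologicalKrullDim X ≤ 1) (hgen : ∀ z : X, ∃ w, ¬ IsClosed ({w} : Set X) ∧ w ⤳ z)
    {L : X.Modules} (hL : PicF.IsInvertible L) :
    CohB1.IsAmple L ↔ ∀ (C : Set X) (hC : C ∈ irreducibleComponents (X : Type u)), 0 < degOn k L (IC C hC) := by
  haveI := Groth.L21.RR.isNoetherian_of_proper (X := X) k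
  rw [Groth.Agent.S7642.result k X hd L hL]
  refine forall_congr' fun C => forall_congr' fun hC => ?_
  rw [radical_irreducibleComponentIdeal C hC]
  exact ⟨fun h => h (dim_component hd hgen C hC).2, fun h _ => h⟩

/-- Ample modules have positive degree on subcurves; degree one only on components. -/
theorem degOn_of_ample (hd : topologicalKrullDim X ≤ 1) (hgen : ∀ z : X, ∃ w, ¬ IsClosed ({w} : Set X) ∧ w ⤳ z)
    {L : X.Modules} (hL : PicF.IsInvertible L) (hA : CohB1.IsAmple L) (J : X.IdealSheafData)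
    [AlgebraicGeometry.IsReduced J.subscheme] [ConnectedSpace J.subscheme]
    (hdim : topologicalKrullDim J.subscheme = 1) :
    0 < degOn k L J ∧ (degOn k L J = 1 → IrreducibleSpace J.subscheme) := by
  classical
  haveI := Groth.L21.RR.isNoetherian_of_proper (X := X) k
  have hgJ := gen_of_dim_one J hdim
  let N := (Groth.L22.CurveDeg.finite_nonclosed hd).toFinset
  have hN : ∀ x, x ∈ N ↔ ¬ IsClosed ({x} : Set X) := fun x => Set.Finite.mem_toFinset _
  rw [degOn_eq_sum hd hgen hL (van_of_isReduced hd J hgJ) N hN]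
  set s := N.filter (fun y => y ∈ (J.support : Set X)) with hs
  have hpos : ∀ y ∈ s, 0 < degOn k L (Scheme.IdealSheafData.vanishingIdeal ⟨closure {y}, isClosed_closure⟩) :=
    fun y hy => (isAmple_iff_degOn hd hgen hL).1 hA (closure {y})
      (closure_mem_components hd ((hN y).1 (Finset.mem_filter.1 hy).1))
  obtain ⟨z⟩ := (inferInstance : Nonempty J.subscheme)
  obtain ⟨w, hwJ, hwn, -⟩ := hgJ (J.subschemeι z) (by rw [← Scheme.IdealSheafData.range_subschemeι]; exact ⟨z, rfl⟩)
  have hws : w ∈ s := Finset.mem_filter.2 ⟨(hN w).2 hwn, hwJ⟩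
  refine ⟨Finset.sum_pos hpos ⟨w, hws⟩, fun h1 => ?_⟩
  have hone : ∀ y ∈ s, y = w := by
    intro y hy
    by_contra hne
    have h2 := Finset.sum_le_sum_of_subset_of_nonneg (show {y, w} ⊆ s by
      intro v hv
      simp only [Finset.mem_insert, Finset.mem_singleton] at hv
      rcases hv with rfl | rfl
      · exact hy
      · exact hws) (fun v hv _ => (hpos v hv).le)
    rw [Finset.sum_pair hne, h1] at h2
    have := hpos y hy
    have := hpos w hws
    omega
  have hsupp : (J.support : Set X) ⊆ closure {w} := fun y hy => by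
    obtain ⟨v, hvJ, hvn, hvy⟩ := hgJ y hy
    rw [hone v (Finset.mem_filter.2 ⟨(hN v).2 hvn, hvJ⟩)] at hvy
    exact specializes_iff_mem_closure.1 hvy
  haveI : PreirreducibleSpace J.subscheme := ⟨fun u v hu hv ⟨a, _, ha⟩ ⟨b, _, hb⟩ => by
    obtain ⟨U, hU, rfl⟩ := J.subschemeι.isClosedEmbedding.isInducing.isOpen_iff.1 hu
    obtain ⟨V, hV, rfl⟩ := J.subschemeι.isClosedEmbedding.isInducing.isOpen_iff.1 hv
    have hr : Set.range J.subschemeι = (J.support : Set X) := Scheme.IdealSheafData.range_subschemeι J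
    have hwU : w ∈ U := (specializes_iff_mem_closure.2 (hsupp (hr.le ⟨a, rfl⟩))).mem_open hU ha
    have hwV : w ∈ V := (specializes_iff_mem_closure.2 (hsupp (hr.le ⟨b, rfl⟩))).mem_open hV hb
    obtain ⟨c, rfl⟩ := hr.ge hwJ
    exact ⟨c, trivial, hwU, hwV⟩⟩
  exact ⟨inferInstance⟩

/-- No `H¹` when the degree exceeds `-2χ` on all subcurves. -/
theorem subsingleton_h1_of_euler_lt (hd : topologicalKrullDim X ≤ 1) {L : X.Modules} (hL : PicF.IsInvertible L)
    (hdeg : ∀ J : X.IdealSheafData, AlgebraicGeometry.IsReduced J.subscheme → ConnectedSpace J.subscheme →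
      topologicalKrullDim J.subscheme = 1 →
      -2 * @Curv2.euler k _ J.subscheme ⟨J.subschemeι ≫ (X ↘ Spec (CommRingCat.of k))⟩
          (Coh.structureModule J.subscheme) < degOn k L J) :
    Subsingleton (Coh.HH X L 1) := by
  haveI := Groth.L21.RR.isNoetherian_of_proper (X := X) k
  have hLc := Groth.L16.ProperFinite.isCoh_of_isInvertible hL
  by_contra hns
  have hu : SuppClosed (cokernel (𝟙 L)) := fun x _ =>
    (Groth.L21.Mod.isZero_iff_stalk_subsingleton _).1 (isZero_cokernel_of_epi (𝟙 L)) x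
  obtain ⟨J, C, χ, hred, hconn, hdim, -, hχ, hχ0, hb⟩ :=
    exists_subcurve k hd hL hLc (𝟙 L) hu (not_subsingleton_iff_nontrivial.1 hns)
  have hz : IsZero ((Scheme.Modules.pushforward J.subschemeι).obj C) := by
    rw [Category.id_comp] at hχ0
    haveI := hχ
    rw [IsZero.iff_id_eq_zero, ← cancel_epi χ, hχ0, zero_comp, zero_comp]
  have h0 : h k 0 ((Scheme.Modules.pushforward J.subschemeι).obj C) = 0 :=
    Groth.L21.RR.h_eq_zero_of_subsingleton k (subsingleton_of_forall_eq 0 fun t => by
      rw [← Groth.L16.CohLinear.hmap_id 0 t, (IsZero.iff_id_eq_zero _).1 hz, Groth.L21.RR.hmap_zero])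
  have h1 := hdeg J hred hconn hdim
  rw [h0] at hb
  exact absurd hb (not_le.2 (by simpa using h1))

variable [IsAlgClosed k] [ConnectedSpace X] {ω : X.Modules} {t : Coh.HH X ω 1 →ₗ[k] k} (S : Setup k X ω t)
  (hgenX : ∀ z : X, ∃ w, ¬ IsClosed ({w} : Set X) ∧ w ⤳ z) (hinv : PicF.IsInvertible ω)

include S hgenX hinv in
/-- Genus, intersection and dualizing degree of a subcurve. -/
theorem subcurve_data (J : X.IdealSheafData) [AlgebraicGeometry.IsReduced J.subscheme]
    [ConnectedSpace J.subscheme] (hdim : topologicalKrullDim J.subscheme = 1) :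
    ∃ a m : ℕ, @Curv2.genus k _ J.subscheme ⟨J.subschemeι ≫ (X ↘ Spec (CommRingCat.of k))⟩ = a ∧
      @Curv2.euler k _ J.subscheme ⟨J.subschemeι ≫ (X ↘ Spec (CommRingCat.of k))⟩ (Coh.structureModule J.subscheme) =
        1 - a ∧
      Module.finrank k (Coh.HH X (ClSub.quotMod (J ⊔ complV J)) 0) = m ∧
      degOn k ω J = 2 * (a : ℤ) - 2 + m ∧
      (1 ≤ m ∨ (m = 0 ∧ a = Curv2.genus k X ∧
        ∀ L : X.Modules, PicF.IsInvertible L → degOn k L J = Curv2.deg k X L 1)) := by
  classical
  haveI := Groth.L21.RR.isNoetherian_of_proper (X := X) k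
  have hgen := gen_of_dim_one J hdim
  obtain ⟨d, a, m, ⟨hd, ha, he, hdeg⟩, hqd, hqa, hqm, -, -, -, hmpos, hcne, -⟩ := subcurve S hgenX hinv J hgen
  letI : J.subscheme.Over (Spec (CommRingCat.of k)) := ⟨J.subschemeι ≫ (X ↘ Spec (CommRingCat.of k))⟩
  haveI : IsProper (J.subscheme ↘ Spec (CommRingCat.of k)) :=
    inferInstanceAs (IsProper (J.subschemeι ≫ (X ↘ Spec (CommRingCat.of k))))
  obtain rfl : d = 1 := hd.symm.trans h0_eq_one_of_connected
  refine ⟨a, m, ha, by rw [he]; simp, by rw [complV_eq_compl S.hd hgenX J]; exact hqm, ?_, ?_⟩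
  · change Curv2.deg k J.subscheme ((Scheme.Modules.pullback J.subschemeι).obj ω) 1 = _
    rw [hdeg]; push_cast; ring
  by_cases hu : (J.support : Set X) = Set.univ
  · right
    have hv := van_of_isReduced S.hd J hgen
    refine ⟨?_, ?_, fun L hL => ?_⟩
    · rw [← hqm]
      have hsub : ∀ x, Subsingleton ((ClSub.quotMod (J ⊔ compl J)).presheaf.stalk x) := fun x => by
        refine Groth.L21.RR.subsingleton_stalk_quotMod _ fun hx => ?_
        rw [Scheme.IdealSheafData.support_sup] at hx
        have h2 : x ∈ ((compl J).support : Set X) := hx.2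
        rw [Scheme.Hom.support_ker, Scheme.Opens.range_ι] at h2
        have h3 : x ∈ closure ((J.support : Set X)ᶜ) := h2
        rw [hu, Set.compl_univ, closure_empty] at h3
        exact h3
      haveI : Subsingleton Γ(ClSub.quotMod (J ⊔ compl J), ⊤) :=
        subsingleton_of_forall_eq 0 fun s => Groth.L21.RR.germ_ext fun x _ => (hsub x).elim _ _
      exact Groth.L21.RR.h_eq_zero_of_subsingleton k ((e0 _).toEquiv.subsingleton_congr.2 this)
    · rw [← hqa, h_quotMod_of_univ (k := k) S.hd hgenX J hv hu 1]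
      rfl
    · have hbot : J = ⊥ := Scheme.IdealSheafData.support_eq_top_iff.1 (SetLike.coe_injective hu)
      rw [degOn_eq_phi L hL]
      haveI := Groth.L21.RR.epi_toSubscheme J
      have hb : ∀ x, Function.Injective (quotMap J x) := fun x => by
        rw [← LinearMap.ker_eq_bot, ker_quotMap, eq_bot_iff]
        intro r hr
        exact (Submodule.mem_bot _).2 (stalk_eq_zero S.hd hgenX r fun w hw hwn =>
          (hv.mem_stI_iff S.hd r).1 hr w hw hwn (hu ▸ Set.mem_univ w))
      haveI : Mono (ClSub.toSubscheme J) := (Groth.L21.Mod.mono_iff_stalk_injective _).2 fun x p q hpq => by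
        obtain ⟨p', rfl⟩ := (Groth.L15.Ref.strE x).surjective p
        obtain ⟨q', rfl⟩ := (Groth.L15.Ref.strE x).surjective q
        exact congrArg _ (hb x hpq)
      haveI : IsIso (ClSub.toSubscheme J) := isIso_of_mono_of_epi _
      rw [← Groth.L22.CurveDeg.phi_structure k]
      exact (Groth.L22.CurveDeg.phi_congr k L 1 (asIso (ClSub.toSubscheme J))).symm
  · left
    exact hmpos (hcne hu)

end Groth.L21.CurveAdj
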