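import Mathlib.Tactic.Linarith
import Mathlib.Algebra.Order.Ring.Int

/-!
The numerics of balanced degrees.
-/

set_option autoImplicit false

namespace Groth.L21.CurveAdj.Num

variable {G D l w m a : ℤ}

/-- balanced inequality with `w = 2a - 2 + m`. -/
structure Bal (G D l w m a : ℤ) : Prop where
  hG : 2 ≤ G
  hb : |2 * G * l - 2 * D * w| ≤ G * m
  hw : w = 2 * a - 2 + m
  ha : 0 ≤ a
  hm : 1 ≤ m

theorem Bal.w_nonneg (B : Bal G D l w m a) (hD : G < 2 * D ∨ G ≤ 2 * D ∧ 0 < l) (hl : 0 ≤ l) : 0 ≤ w := by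
  obtain ⟨hG, hb, hw, ha, hm⟩ := B
  by_contra h
  obtain rfl : a = 0 := by omega
  obtain rfl : m = 1 := by omega
  obtain rfl : w = -1 := by omega
  have := (abs_le.1 hb).2
  rcases hD with hD | ⟨hD, hl'⟩
  · nlinarith [mul_nonneg (by omega : (0 : ℤ) ≤ G) hl]
  · nlinarith [mul_le_mul_of_nonneg_left (show (1 : ℤ) ≤ l by omega) (by omega : (0 : ℤ) ≤ G)]

theorem Bal.exceptional (B : Bal G D l w m a) (h0 : w = 0) : a = 0 ∧ m = 2 ∧ -1 ≤ l ∧ l ≤ 1 := by
  obtain ⟨hG, hb, hw, ha, hm⟩ := B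
  obtain rfl : a = 0 := by omega
  obtain rfl : m = 2 := by omega
  subst h0
  obtain ⟨h1, h2⟩ := abs_le.1 hb
  refine ⟨rfl, rfl, ?_, ?_⟩ <;> nlinarith

theorem Bal.l_nonneg (B : Bal G D l w m a) (hD : G < 2 * D) (h0 : 0 < w) : 0 ≤ l := by
  obtain ⟨hG, hb, hw, ha, hm⟩ := B
  by_contra h
  have := (abs_le.1 hb).1
  nlinarith [mul_le_mul_of_nonneg_left (show l ≤ -1 by omega) (by omega : (0 : ℤ) ≤ 2 * G),
    mul_pos h0 (show 0 < 2 * D - G by omega), mul_le_mul_of_nonneg_left (show m ≤ w + 2 by omega) (by omega : (0 : ℤ) ≤ G)]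

theorem Bal.h1 (B : Bal G D l w m a) (hD : G < D) (h0 : 0 ≤ w) : 2 * a - 2 < l := by
  obtain ⟨hG, hb, hw, ha, hm⟩ := B
  by_contra h
  have := (abs_le.1 hb).1
  rcases h0.eq_or_lt with e | e
  · obtain rfl : a = 0 := by omega
    obtain rfl : m = 2 := by omega
    subst e
    nlinarith
  · nlinarith [mul_le_mul_of_nonneg_left (show l ≤ 2 * a - 2 by omega) (by omega : (0 : ℤ) ≤ 2 * G),
      mul_pos e (show 0 < D - G by omega), mul_pos (show 0 < m by omega) (show 0 < G by omega)]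

theorem Bal.gg (B : Bal G D l w m a) (hD : 3 * G < 2 * D) (hl : 0 ≤ l) : 2 * a ≤ l := by
  obtain ⟨hG, hb, hw, ha, hm⟩ := B
  rcases ha.eq_or_lt with rfl | e
  · omega
  by_contra h
  have := (abs_le.1 hb).1
  nlinarith [mul_le_mul_of_nonneg_left (show l ≤ 2 * a - 1 by omega) (by omega : (0 : ℤ) ≤ 2 * G),
    mul_pos (show 0 < w by omega) (show 0 < 2 * D - 3 * G by omega),
    mul_le_mul_of_nonneg_left hm (by omega : (0 : ℤ) ≤ 2 * G),
    mul_le_mul_of_nonneg_left (show (1 : ℤ) ≤ a by omega) (by omega : (0 : ℤ) ≤ 2 * G)]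

theorem Bal.five (B : Bal G D l w m a) (hD : 5 * G < 2 * D) (hl : 0 < l) : 2 * a < l := by
  obtain ⟨hG, hb, hw, ha, hm⟩ := B
  rcases ha.eq_or_lt with rfl | e
  · omega
  by_contra h
  have := (abs_le.1 hb).1
  nlinarith [mul_le_mul_of_nonneg_left (show l ≤ 2 * a by omega) (by omega : (0 : ℤ) ≤ 2 * G),
    mul_pos (show 0 < w by omega) (show 0 < 2 * D - 5 * G by omega),
    mul_le_mul_of_nonneg_left hm (by omega : (0 : ℤ) ≤ 4 * G),
    mul_le_mul_of_nonneg_left (show (1 : ℤ) ≤ a by omega) (by omega : (0 : ℤ) ≤ 6 * G)]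

theorem Bal.three (B : Bal G D l w m a) (hD : 3 * G < 2 * D) (hl : 0 < l) (hne : a = 1 → m ≠ 1) :
    2 * a < l := by
  obtain ⟨hG, hb, hw, ha, hm⟩ := B
  rcases ha.eq_or_lt with rfl | e
  · omega
  by_contra h
  have := (abs_le.1 hb).1
  have h3 : 3 ≤ a + m := by
    by_contra h'
    exact hne (by omega) (by omega)
  nlinarith [mul_le_mul_of_nonneg_left (show l ≤ 2 * a by omega) (by omega : (0 : ℤ) ≤ 2 * G),
    mul_pos (show 0 < w by omega) (show 0 < 2 * D - 3 * G by omega),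
    mul_le_mul_of_nonneg_left h3 (by omega : (0 : ℤ) ≤ 2 * G)]

theorem Bal.amp (B : Bal G D l w m a) (hD : 3 * G < 2 * D) (h0 : 0 ≤ w) (hex : w = 0 → l = 1) : 0 < l := by
  rcases h0.eq_or_lt with e | e
  · have := hex e.symm; omega
  obtain ⟨hG, hb, hw, ha, hm⟩ := B
  by_contra h
  have := (abs_le.1 hb).1
  nlinarith [mul_le_mul_of_nonneg_left (show l ≤ 0 by omega) (by omega : (0 : ℤ) ≤ 2 * G),
    mul_pos e (show 0 < 2 * D - 3 * G by omega),
    mul_le_mul_of_nonneg_left (show m ≤ 3 * w by omega) (by omega : (0 : ℤ) ≤ G)]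

end Groth.L21.CurveAdj.Num
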