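import Groth.Agent.L21.CurveAdj.Nodal
import Mathlib.AlgebraicGeometry.IdealSheaf.IrreducibleComponent

/-!
Components of nodal curves; rational tails.
-/

set_option autoImplicit false
set_option backward.isDefEq.respectTransparency false
set_option backward.isDefEq.respectTransparency.types false
set_option linter.style.haveILetI false
universe u

open CategoryTheory CategoryTheory.Limits AlgebraicGeometry Opposite TopologicalSpace

noncomputable section

namespace Groth.L21.CurveAdj

open Groth.L21.RR (h)

variable {X : Scheme.{u}}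

/-- The ideal of a component. -/
abbrev IC (C : Set X) (hC : C ∈ irreducibleComponents (X : Type u)) : X.IdealSheafData :=
  Scheme.IdealSheafData.vanishingIdeal ⟨C, isClosed_of_mem_irreducibleComponents C hC⟩

/-- The ideal of the closure of the complement of a component. -/
abbrev IX' (C : Set X) (hC : C ∈ irreducibleComponents (X : Type u)) : X.IdealSheafData :=
  (Scheme.Opens.ι (⟨Cᶜ, (isClosed_of_mem_irreducibleComponents C hC).isOpen_compl⟩ : X.Opens)).ker

theorem compl_eq_of_support (J : X.IdealSheafData) (C : Set X) (hC : IsClosed C) (h : (J.support : Set X) = C) :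
    compl J = (Scheme.Opens.ι (⟨Cᶜ, hC.isOpen_compl⟩ : X.Opens)).ker := by
  subst h
  rfl

theorem coe_support_IC (C : Set X) (hC : C ∈ irreducibleComponents (X : Type u)) :
    ((IC C hC).support : Set X) = C :=
  Scheme.IdealSheafData.coe_support_vanishingIdeal _

theorem compl_IC (C : Set X) (hC : C ∈ irreducibleComponents (X : Type u)) : compl (IC C hC) = IX' C hC :=
  compl_eq_of_support _ C (isClosed_of_mem_irreducibleComponents C hC) (coe_support_IC C hC)

theorem component (hgenX : ∀ z : X, ∃ w, ¬ IsClosed ({w} : Set X) ∧ w ⤳ z) (C : Set X)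
    (hC : C ∈ irreducibleComponents (X : Type u)) :
    AlgebraicGeometry.IsReduced (IC C hC).subscheme ∧ ConnectedSpace (IC C hC).subscheme ∧
      ∀ y ∈ ((IC C hC).support : Set X), ∃ w ∈ ((IC C hC).support : Set X), ¬ IsClosed ({w} : Set X) ∧ w ⤳ y := by
  refine ⟨Groth.L18.isReduced_vanishingIdeal_subscheme _, ?_, ?_⟩
  · have hr : Set.range (IC C hC).subschemeι = C := by
      rw [Scheme.IdealSheafData.range_subschemeι, coe_support_IC]
    have h1 : _root_.IsPreconnected (Set.univ : Set (IC C hC).subscheme) := by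
      rw [← (IC C hC).subschemeι.isClosedEmbedding.isInducing.isPreconnected_image, Set.image_univ, hr]
      exact hC.1.isPreirreducible.isPreconnected
    obtain ⟨x, hx⟩ := hC.1.nonempty
    rw [← hr] at hx
    obtain ⟨y, -⟩ := hx
    haveI : PreconnectedSpace (IC C hC).subscheme := ⟨h1⟩
    exact { toNonempty := ⟨y⟩ }
  · intro y hy
    rw [coe_support_IC] at hy ⊢
    obtain ⟨η, hη⟩ := QuasiSober.sober hC.1 (isClosed_of_mem_irreducibleComponents C hC)
    refine ⟨η, hη.mem, fun hc => ?_, hη.specializes hy⟩
    obtain ⟨w, hw, hwη⟩ := hgenX η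
    have hle : C ⊆ closure {w} := by
      rw [← hη.def]
      exact closure_minimal (Set.singleton_subset_iff.2 (specializes_iff_mem_closure.1 hwη)) isClosed_closure
    have hwC : w ∈ C := hC.2 isIrreducible_singleton.closure hle (subset_closure rfl)
    rw [← hη.def, hc.closure_eq] at hwC
    exact hw (hwC.symm ▸ hc)

theorem radical_irreducibleComponentIdeal [IsNoetherian X] (C : Set X) (hC : C ∈ irreducibleComponents (X : Type u)) :
    (X.irreducibleComponentIdeal C hC).radical = IC C hC := by
  rw [← Scheme.IdealSheafData.vanishingIdeal_support]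
  rfl

/-- A reduced closed subscheme with everything as support is everything. -/
theorem h_quotMod_of_univ [IsNoetherian X] [AlgebraicGeometry.IsReduced X] {k : Type u} [Field k]
    [X.Over (Spec (CommRingCat.of k))] (hd : topologicalKrullDim X ≤ 1)
    (hgenX : ∀ z : X, ∃ w, ¬ IsClosed ({w} : Set X) ∧ w ⤳ z) (J : X.IdealSheafData) {A : Set X} (hJ : Van J A)
    (hA : A = Set.univ) (p : ℕ) : h k p (ClSub.quotMod J) = h k p (Coh.structureModule X) := by
  haveI := Groth.L21.RR.epi_toSubscheme J
  have hb : ∀ x, Function.Injective (quotMap J x) := fun x => by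
    rw [← LinearMap.ker_eq_bot, ker_quotMap, eq_bot_iff]
    intro r hr
    exact (Submodule.mem_bot _).2 (stalk_eq_zero hd hgenX r fun w hw hwn =>
      (hJ.mem_stI_iff hd r).1 hr w hw hwn (hA ▸ Set.mem_univ w))
  haveI : Mono (ClSub.toSubscheme J) := (Groth.L21.Mod.mono_iff_stalk_injective _).2 fun x u v huv => by
    obtain ⟨a, rfl⟩ := (Groth.L15.Ref.strE x).surjective u
    obtain ⟨b, rfl⟩ := (Groth.L15.Ref.strE x).surjective v
    exact congrArg _ (hb x huv)
  haveI : IsIso (ClSub.toSubscheme J) := isIso_of_mono_of_epi _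
  exact (Groth.L21.RR.h_congr k (asIso (ClSub.toSubscheme J)) p).symm

variable {k : Type u} [Field k] [X.Over (Spec (CommRingCat.of k))]

/-- At a rational tail the rest meets in `h⁰(O_C)`. -/
theorem h0_inter_of_tail [IsProper (X ↘ Spec (CommRingCat.of k))] {C : Set X}
    {hC : C ∈ irreducibleComponents (X : Type u)} [AlgebraicGeometry.IsReduced (IC C hC).subscheme]
    [ConnectedSpace (IC C hC).subscheme] (hT : Curv2.IsRationalTail X C hC) :
    h k 0 (ClSub.quotMod (IC C hC ⊔ IX' C hC)) = h k 0 (ClSub.quotMod (IC C hC)) := by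
  obtain ⟨-, hN, hS, hR, hbij, -⟩ := hT
  let J := IC C hC
  let K := IC C hC ⊔ IX' C hC
  haveI : Nonempty K.subscheme := hN
  haveI : Subsingleton K.subscheme := hS
  haveI : AlgebraicGeometry.IsReduced K.subscheme := hR
  haveI : X.IsSeparated := ⟨by rw [← Limits.terminal.comp_from (X ↘ Spec (CommRingCat.of k))]; infer_instance⟩
  haveI := Groth.L21.RR.isNoetherian_of_proper (X := X) k
  letI iY : J.subscheme.Over (Spec (CommRingCat.of k)) := ⟨J.subschemeι ≫ (X ↘ Spec (CommRingCat.of k))⟩
  haveI : IsProper (J.subscheme ↘ Spec (CommRingCat.of k)) :=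
    inferInstanceAs (IsProper (J.subschemeι ≫ (X ↘ Spec (CommRingCat.of k))))
  letI iK : K.subscheme.Over (Spec (CommRingCat.of k)) := ⟨K.subschemeι ≫ (X ↘ Spec (CommRingCat.of k))⟩
  have hpush : ∀ (I : X.IdealSheafData),
      letI : I.subscheme.Over (Spec (CommRingCat.of k)) := ⟨I.subschemeι ≫ (X ↘ Spec (CommRingCat.of k))⟩
      h k 0 (Coh.structureModule I.subscheme) = h k 0 (ClSub.quotMod I) := fun I => by
    letI : I.subscheme.Over (Spec (CommRingCat.of k)) := ⟨I.subschemeι ≫ (X ↘ Spec (CommRingCat.of k))⟩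
    haveI : IsLocallyNoetherian I.subscheme := LocallyOfFiniteType.isLocallyNoetherian I.subschemeι
    obtain ⟨e⟩ := Groth.L03.Euler.exists_HH_push_linearEquiv (k := k) I.subschemeι (Coh.structureModule I.subscheme)
      Groth.L16.CohClosedPush.isCoh_structure.1 rfl 0
    exact e.finrank_eq
  let incl : K.subscheme ⟶ J.subscheme := Scheme.IdealSheafData.inclusion (le_sup_left : J ≤ K)
  have hincl : incl ≫ (J.subscheme ↘ Spec (CommRingCat.of k)) = K.subscheme ↘ Spec (CommRingCat.of k) := by
    change incl ≫ J.subschemeι ≫ _ = K.subschemeι ≫ _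
    rw [← Category.assoc, Scheme.IdealSheafData.inclusion_subschemeι]
  rw [← hpush, ← hpush]
  obtain ⟨c⟩ := hN
  have hb := hbij c
  haveI : IsClosedImmersion (incl ≫ J.subschemeι) := by
    rw [Scheme.IdealSheafData.inclusion_subschemeι]; infer_instance
  haveI : IsClosedImmersion incl := IsClosedImmersion.of_comp incl J.subschemeι
  have hKinj : ∀ s : Γ(K.subscheme, ⊤), K.subscheme.Γevaluation c s = 0 → s = 0 := fun s hs => by
    refine (basicOpen_eq_bot_iff s).1 (Opens.ext (Set.eq_empty_iff_forall_notMem.2 fun z hz => ?_))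
    rw [hS.elim z c] at hz
    exact (K.subscheme.evaluation_eq_zero_iff_notMem_basicOpen c (U := ⊤) trivial s).1 hs hz
  refine h0_eq_of_bijective k incl hincl ⟨?_, fun b => ?_⟩
  · letI := (isField_top k (Y := J.subscheme)).toField
    haveI : Nontrivial Γ(K.subscheme, ⊤) := (K.subscheme.presheaf.germ ⊤ c trivial).hom.domain_nontrivial
    exact RingHom.injective incl.appTop.hom
  · obtain ⟨z, hz⟩ : ∃ z, incl.residueFieldMap c z = K.subscheme.Γevaluation c b := by
      obtain ⟨r, hr⟩ := IsLocalRing.residue_surjective (K.subscheme.Γevaluation c b)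
      obtain ⟨s, hs⟩ := incl.stalkMap_surjective c r
      exact ⟨J.subscheme.residue _ s, by rw [← hr, ← hs]; rfl⟩
    obtain ⟨a, rfl⟩ := hb.2 z
    refine ⟨a, sub_eq_zero.1 (hKinj _ ?_)⟩
    rw [map_sub, sub_eq_zero, ← hz]
    exact (Scheme.Γevaluation_naturality_apply incl c a).symm

end Groth.L21.CurveAdj
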