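import Groth.Agent.L21.CurveAdj.Formula

/-!
Degrees of the dualizing module on unions of components.
-/

set_option autoImplicit false
set_option backward.isDefEq.respectTransparency false
set_option backward.isDefEq.respectTransparency.types false
set_option linter.style.haveILetI false
universe u

open CategoryTheory CategoryTheory.Limits AlgebraicGeometry Opposite TopologicalSpace

noncomputable section

namespace Groth.L21.CurveAdj

open Groth.L21.RR (st one h SuppClosed bijective_smul_one)
open Groth.L22.CurveDeg (phi)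
open Groth.L21.CurveGor (Setup pre)
open Groth.L15.Ref (strE)

variable {X : Scheme.{u}} {k : Type u} [Field k] [X.Over (Spec (CommRingCat.of k))]
  [IsProper (X ↘ Spec (CommRingCat.of k))] [AlgebraicGeometry.IsReduced X]
  {ω : X.Modules} {t : Coh.HH X ω 1 →ₗ[k] k} (S : Setup k X ω t)
  (hgen : ∀ z : X, ∃ w, ¬ IsClosed ({w} : Set X) ∧ w ⤳ z) (hinv : PicF.IsInvertible ω)
  {J J' : X.IdealSheafData} {A : Set X} (hJ : Van J A) (hJ' : Van J' Aᶜ)

include hgen hJ hJ' in
/-- `χ(O) = χ(O/J) + χ(O/J') - h⁰(O/(J + J'))`. -/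
theorem euler_union (hd : topologicalKrullDim X ≤ 1) :
    Curv2.euler k X (Coh.structureModule X) = Curv2.euler k X (ClSub.quotMod J) +
      Curv2.euler k X (ClSub.quotMod J') - h k 0 (ClSub.quotMod (J ⊔ J')) := by
  haveI := Groth.L21.RR.isNoetherian_of_proper (X := X) k
  let f : ClSub.idealMod J' ⟶ ClSub.quotMod J := ClSub.idealModι J' ≫ ClSub.toSubscheme J
  haveI : Mono (ClSub.idealModι J') := inferInstanceAs (Mono (kernel.ι _))
  have hcomp : ∀ x (v : (ClSub.idealMod J').presheaf.stalk x),
      st f x v = st (ClSub.toSubscheme J) x (st (ClSub.idealModι J') x v) := fun x v => Groth.L21.RR.st_comp _ _ x v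
  have hmem : ∀ x (v : (ClSub.idealMod J').presheaf.stalk x),
      (strE x).symm (st (ClSub.idealModι J') x v) ∈ stI J' x := fun x v => LinearMap.mem_range.2
    ⟨v, ((strE x).apply_symm_apply _).symm⟩
  have hf : ∀ x (v : (ClSub.idealMod J').presheaf.stalk x),
      st f x v = quotMap J x ((strE x).symm (st (ClSub.idealModι J') x v)) := fun x v => by
    rw [hcomp, quotMap, LinearMap.comp_apply, LinearEquiv.coe_coe, LinearEquiv.apply_symm_apply]
  haveI : Mono f := (Groth.L21.Mod.mono_iff_stalk_injective f).2 fun x => by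
    show Function.Injective (st f x)
    rw [injective_iff_map_eq_zero]
    intro v hv
    rw [hf, ← LinearMap.mem_ker, ker_quotMap, hJ.mem_stI_iff hd] at hv
    have h' := (hJ'.mem_stI_iff hd _).1 (hmem x v)
    have h0 : (strE x).symm (st (ClSub.idealModι J') x v) = 0 := stalk_eq_zero hd hgen _ fun w hw hwn => by
      by_cases hA : w ∈ A
      · exact hv w hw hwn hA
      · exact h' w hw hwn hA
    refine (Groth.L21.Mod.mono_iff_stalk_injective (ClSub.idealModι J')).1 inferInstance x ?_
    refine ((LinearEquiv.symm_apply_eq _).1 h0).trans ?_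
    rw [map_zero]
    exact (map_zero (st (ClSub.idealModι J') x)).symm
  let g : ∀ x, X.presheaf.stalk x →ₗ[X.presheaf.stalk x] (cokernel f).presheaf.stalk x :=
    fun x => (st (cokernel.π f) x).comp (quotMap J x)
  have hgs : ∀ x, Function.Surjective (g x) := fun x =>
    ((Groth.L21.Mod.epi_iff_stalk_surjective (cokernel.π f)).1 inferInstance x).comp (quotMap_surjective J x)
  have hgk : ∀ x, LinearMap.ker (g x) = stI (J ⊔ J') x := fun x => by
    rw [stI_sup]
    refine le_antisymm (fun r hr => ?_) (sup_le ?_ fun r hr => ?_)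
    · obtain ⟨u, hu⟩ := Groth.L21.RR.exists_of_st_cokernel f x _ (LinearMap.mem_ker.1 hr)
      rw [hf] at hu
      have h1 : r - (strE x).symm (st (ClSub.idealModι J') x u) ∈ stI J x := by
        rw [← ker_quotMap, LinearMap.mem_ker, map_sub, hu, sub_self]
      exact Submodule.mem_sup.2 ⟨_, h1, _, hmem x u, sub_add_cancel _ _⟩
    · rw [← ker_quotMap]
      exact LinearMap.ker_le_ker_comp _ _
    · obtain ⟨u, hu⟩ := LinearMap.mem_range.1 hr
      rw [LinearMap.mem_ker]
      change st (cokernel.π f) x (quotMap J x r) = 0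
      have hr' : r = (strE x).symm (st (ClSub.idealModι J') x u) := by
        rw [LinearEquiv.eq_symm_apply]
        exact hu.symm
      rw [hr', ← hf, ← Groth.L21.RR.st_comp, cokernel.condition, st, Functor.map_zero]
      rfl
  have hsupK : SuppClosed (ClSub.quotMod (J ⊔ J')) := fun w hwn => by
    have htop : stI (J ⊔ J') w = ⊤ := by
      rw [stI_sup]
      by_cases hA : w ∈ A
      · rw [stI_eq_top hd hJ' hwn (not_not.2 hA), sup_top_eq]
      · rw [stI_eq_top hd hJ hwn hA, top_sup_eq]
    refine subsingleton_of_forall_eq 0 fun v => ?_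
    obtain ⟨r, rfl⟩ := quotMap_surjective (J ⊔ J') w v
    rw [← LinearMap.mem_ker, ker_quotMap, htop]
    exact Submodule.mem_top
  let θ : ∀ x, (cokernel f).presheaf.stalk x ≃ₗ[X.presheaf.stalk x] (ClSub.quotMod (J ⊔ J')).presheaf.stalk x :=
    fun x => ((g x).quotKerEquivOfSurjective (hgs x)).symm ≪≫ₗ
      Submodule.quotEquivOfEq _ _ ((hgk x).trans (ker_quotMap (J ⊔ J') x).symm) ≪≫ₗ
      (quotMap (J ⊔ J') x).quotKerEquivOfSurjective (quotMap_surjective (J ⊔ J') x)
  have hsupC : SuppClosed (cokernel f) := fun w hwn => by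
    haveI := hsupK w hwn
    exact (θ w).toEquiv.subsingleton
  have hO := Groth.L16.CohClosedPush.isCoh_structure (X := X)
  have hI' := Groth.L21.RR.isCoh_idealMod J'
  have hQ := Groth.L21.RR.isCoh_quotMod J
  have hC := (Groth.L16.CohKernel.isCoh_kernel_cokernel hI' hQ f).2
  have sF : (ShortComplex.mk f (cokernel.π f) (cokernel.condition _)).ShortExact :=
    { exact := ShortComplex.exact_cokernel _ }
  have e1 := Groth.L21.RR.euler_add k hd sF hI' hQ hC
  have e2 := Groth.L21.RR.euler_add k hd (Groth.L21.RR.shortExact_idealSeq J') hI' hO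
    (Groth.L21.RR.isCoh_quotMod J')
  rw [Groth.L21.RR.euler_eq_h0_of_suppClosed k hsupC, Groth.L21.RR.h0_eq_of_stalk_equiv (k := k) hsupC hsupK θ] at e1
  simp only [Groth.L21.RR.idealSeq] at e2
  linarith

include S hgen hinv hJ hJ' in
/-- The adjunction formula. -/
theorem phi_quotMod :
    phi k ω 1 (ClSub.quotMod J) =
      -2 * Curv2.euler k X (ClSub.quotMod J) + h k 0 (ClSub.quotMod (J ⊔ J')) := by
  haveI := Groth.L21.RR.isNoetherian_of_proper (X := X) k
  have hE := Groth.L12.FinCov.isFinLocFreeOfRank_one_of_isInvertible hinv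
  have hO := Groth.L16.CohClosedPush.isCoh_structure (X := X)
  have hI := Groth.L21.RR.isCoh_idealMod J
  have hQ := Groth.L21.RR.isCoh_quotMod J
  obtain ⟨e⟩ := nonempty_hom_quot_iso S.hd hgen hJ hJ' hinv
  have h1 := Groth.L21.CurveDual.euler_hom_eq_neg S.hd S.hω (Groth.L21.RR.isCoh_quotMod J')
    fun x hx => not_assPoint_quotMod S.hd hJ' hx
  rw [Groth.L03.Euler.euler_iso e] at h1
  have h2 := Groth.L22.CurveDeg.phi_add k hE (Groth.L21.RR.shortExact_idealSeq J) hI hO hQ
  have h3 := Groth.L21.RR.euler_add k S.hd (Groth.L21.RR.shortExact_idealSeq J) hI hO hQ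
  have h4 : phi k ω 1 (Coh.structureModule X) = -2 * Curv2.euler k X (Coh.structureModule X) := by
    rw [Groth.L22.CurveDeg.phi_structure, Curv2.deg, Groth.L21.CurveDual.euler_eq_neg S.hd S.hω S.assO]
    push_cast; ring
  have h5 : phi k ω 1 (ClSub.idealMod J) =
      Curv2.euler k X (CohB1.tensorMod ω (ClSub.idealMod J)) - Curv2.euler k X (ClSub.idealMod J) := by
    rw [phi, Nat.cast_one, one_mul]
  have h6 := euler_union (k := k) hgen hJ hJ' S.hd
  simp only [Groth.L21.RR.idealSeq] at h2 h3
  linarith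

include S hgen hinv hJ hJ' in
/-- The adjunction formula, on the subscheme. -/
theorem deg_pullback :
    @Curv2.deg k _ J.subscheme ⟨J.subschemeι ≫ (X ↘ Spec (CommRingCat.of k))⟩
        ((Scheme.Modules.pullback J.subschemeι).obj ω) 1 =
      -2 * @Curv2.euler k _ J.subscheme ⟨J.subschemeι ≫ (X ↘ Spec (CommRingCat.of k))⟩
          (Coh.structureModule J.subscheme) + h k 0 (ClSub.quotMod (J ⊔ J')) := by
  letI : J.subscheme.Over (Spec (CommRingCat.of k)) := ⟨J.subschemeι ≫ (X ↘ Spec (CommRingCat.of k))⟩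
  haveI : IsProper (J.subscheme ↘ Spec (CommRingCat.of k)) :=
    inferInstanceAs (IsProper (J.subschemeι ≫ (X ↘ Spec (CommRingCat.of k))))
  haveI := Groth.L21.RR.isNoetherian_of_proper (X := X) k
  haveI : X.IsSeparated := ⟨by rw [← Limits.terminal.comp_from (X ↘ Spec (CommRingCat.of k))]; infer_instance⟩
  haveI : IsLocallyNoetherian J.subscheme := LocallyOfFiniteType.isLocallyNoetherian J.subschemeι
  have hqO : Coh.IsQCoh (Coh.structureModule J.subscheme) :=
    (Groth.L16.CohClosedPush.isCoh_structure (X := J.subscheme)).1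
  have h1 := Groth.L22.CurveDeg.phi_push k J.subschemeι
    (show J.subschemeι ≫ (X ↘ Spec (CommRingCat.of k)) = J.subscheme ↘ Spec (CommRingCat.of k) from rfl)
    (Groth.L12.FinCov.isFinLocFreeOfRank_one_of_isInvertible hinv) (Coh.structureModule J.subscheme) hqO
  have h2 := Groth.L03.Euler.euler_push (k := k) J.subschemeι (Coh.structureModule J.subscheme) hqO
    (show J.subschemeι ≫ (X ↘ Spec (CommRingCat.of k)) = J.subscheme ↘ Spec (CommRingCat.of k) from rfl)
  rw [← Groth.L22.CurveDeg.phi_structure k, ← h1, ← h2]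
  exact phi_quotMod S hgen hinv hJ hJ'

end Groth.L21.CurveAdj
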