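import Groth.Agent.L21.CurveGor.HomPre
import Groth.Agent.L21.RR.PointPow

/-!
`Hom(O, G) = G`.
-/

set_option autoImplicit false
set_option backward.isDefEq.respectTransparency false
set_option linter.style.haveILetI false
universe u

open CategoryTheory CategoryTheory.Limits AlgebraicGeometry Opposite

noncomputable section

namespace Groth.L21.CurveAdj

open Groth.L21.RR (st st_germ one oneSec bijective_smul_one)
open Groth.L15.Ref (strE)

variable {X : Scheme.{u}}

theorem isLocSect_unit (G : X.Modules) {U : X.Opens} (m : Γ(G, U)) :
    RefHull.IsLocSect (Coh.structureModule X) G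
      fun y : U => ((strE y.1).symm.toLinearMap).smulRight (G.presheaf.germ U y.1 y.2 m) := fun V i a x => by
  refine ⟨V, x.2, 𝟙 V, (show Γ(X, V) from a) • G.presheaf.map i.op m, fun y => ?_⟩
  have h1 : (strE y.1).symm ((Coh.structureModule X).presheaf.germ V y.1 y.2 a) =
      X.presheaf.germ V y.1 y.2 (show Γ(X, V) from a) := by
    rw [LinearEquiv.symm_apply_eq]
    exact Groth.L21.RR.germ_eq_smul_one y.2 _
  rw [LinearMap.smulRight_apply, LinearEquiv.coe_coe, h1, Groth.L20.ModStalk.germ_smul,
    TopCat.Presheaf.germ_res_apply]

/-- The family of a section. -/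
abbrev fam (G : X.Modules) {U : X.Opens} (m : Γ(G, U)) :
    ∀ y : U, RefHull.StalkHom (Coh.structureModule X) G y.1 :=
  fun y => ((strE y.1).symm.toLinearMap).smulRight (G.presheaf.germ U y.1 y.2 m)

/-- `G ⟶ Hom(O, G)`. -/
def unitH (G : X.Modules) : G ⟶ RefHull.homSh (Coh.structureModule X) G :=
  ⟨PresheafOfModules.homMk
    { app := fun U => AddCommGrpCat.ofHom
        { toFun := fun m => (⟨fam G (U := U.unop) m, isLocSect_unit G (U := U.unop) m⟩ :
            Γ(RefHull.homSh (Coh.structureModule X) G, U.unop))
          map_zero' := Subtype.ext (funext fun y => LinearMap.ext fun v => by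
            show fam G (U := U.unop) 0 y v = 0
            rw [fam, LinearMap.smulRight_apply, map_zero, smul_zero])
          map_add' := fun m m' => Subtype.ext (funext fun y => LinearMap.ext fun v => by
            show fam G (U := U.unop) (m + m') y v = fam G (U := U.unop) m y v + fam G (U := U.unop) m' y v
            rw [fam, fam, fam, LinearMap.smulRight_apply, LinearMap.smulRight_apply, LinearMap.smulRight_apply,
              map_add, smul_add]) }
      naturality := fun {U V} i => by
        ext m
        refine Subtype.ext (funext fun y => ?_)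
        change ((strE y.1).symm.toLinearMap).smulRight _ = ((strE y.1).symm.toLinearMap).smulRight _
        exact congrArg _ (TopCat.Presheaf.germ_res_apply' G.presheaf i y.1 y.2 m) }
    (fun U r m => Subtype.ext <| funext fun y => LinearMap.ext fun v => by
      change fam G (U := U.unop) ((show Γ(X, U.unop) from r) • (show Γ(G, U.unop) from m)) y v =
        X.presheaf.germ U.unop y.1 y.2 r • fam G (U := U.unop) m y v
      rw [fam, fam, LinearMap.smulRight_apply, LinearMap.smulRight_apply]
      refine (congrArg ((strE y.1).symm v • ·) (Mero.germ_smul G U.unop y.1 y.2 r m)).trans ?_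
      exact smul_comm _ _ _)⟩

theorem evalStalk_unitH (G : X.Modules) (x : X) (v : G.presheaf.stalk x) :
    RefHull.evalStalk (Coh.structureModule X) G x (st (unitH G) x v) =
      ((strE x).symm.toLinearMap).smulRight v := by
  obtain ⟨U, hxU, m, rfl⟩ := TopCat.Presheaf.exists_germ_eq G.presheaf v
  rw [st_germ, RefHull.evalStalk_germ]
  rfl

/-- `G ≅ Hom(O, G)` for quasi-coherent `G` on a locally Noetherian scheme. -/
theorem isIso_unitH [IsLocallyNoetherian X] (G : X.Modules) [Coh.IsQCoh G] : IsIso (unitH G) := by
  refine (Groth.L21.Mod.isIso_iff_stalk_bijective _).2 fun x => ?_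
  have hev := Groth.L15.Ref.evalStalk_bijective (Coh.structureModule X) G
    Groth.L16.CohClosedPush.isCoh_structure x
  refine ⟨fun v w h => ?_, fun θ => ?_⟩
  · have h1 := congrArg (fun φ => φ (one X x)) ((evalStalk_unitH G x v).symm.trans
      ((congrArg _ h).trans (evalStalk_unitH G x w)))
    have h2 : (strE x).symm (one X x) = 1 := by
      rw [LinearEquiv.symm_apply_eq]
      exact (one_smul (X.presheaf.stalk x) (one X x)).symm
    simpa [h2] using h1
  · refine ⟨RefHull.evalStalk (Coh.structureModule X) G x θ (one X x), hev.1 ((evalStalk_unitH G x _).trans ?_)⟩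
    refine LinearMap.ext fun v => ?_
    obtain ⟨a, rfl⟩ := (bijective_smul_one x).2 v
    have h2 : (strE x).symm (a • one X x) = a := (LinearEquiv.symm_apply_eq _).2 rfl
    rw [LinearMap.smulRight_apply, LinearEquiv.coe_coe, h2]
    exact (map_smul _ a _).symm

end Groth.L21.CurveAdj
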