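import Groth.Agent.L21.CurveAdj.Van
import Groth.Agent.L21.CurveAdj.Unit
import Groth.Agent.L21.CurveGor.Main
import Groth.Agent.L21.RR.IdealTwist

/-!
The adjunction formula for unions of components of a reduced Gorenstein curve.
-/

set_option autoImplicit false
set_option backward.isDefEq.respectTransparency false
set_option backward.isDefEq.respectTransparency.types false
set_option linter.style.haveILetI false
universe u

open CategoryTheory CategoryTheory.Limits AlgebraicGeometry Opposite TopologicalSpace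
open IsLocalRing (maximalIdeal)

noncomputable section

namespace Groth.L21.CurveAdj

open Groth.L21.RR (st one h SuppClosed bijective_smul_one)
open Groth.L22.CurveDeg (phi)
open Groth.L21.CurveGor (Setup pre evalStalk_pre)
open Groth.L15.Ref (strE)
open Groth.L00.Tensor (tensorMap)

variable {X : Scheme.{u}}

/-- Monomorphisms with the same stalk images have isomorphic sources. -/
theorem nonempty_iso_of_range {A C B : X.Modules} (m₁ : A ⟶ B) (m₂ : C ⟶ B) [Mono m₁] [Mono m₂]
    (hr : ∀ x, LinearMap.range (st m₁ x) = LinearMap.range (st m₂ x)) : Nonempty (A ≅ C) := by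
  have key : ∀ {P R : X.Modules} (a : P ⟶ B) (b : R ⟶ B),
      (∀ x, LinearMap.range (st a x) ≤ LinearMap.range (st b x)) → a ≫ cokernel.π b = 0 := by
    intro P R a b hab
    refine Groth.L21.Mod.hom_ext_stalk fun x => ?_
    ext v
    obtain ⟨w, hw⟩ := hab x ⟨v, rfl⟩
    rw [Functor.map_zero]
    change st (a ≫ cokernel.π b) x v = 0
    rw [Groth.L21.RR.st_comp, ← hw, ← Groth.L21.RR.st_comp, cokernel.condition, st, Functor.map_zero]
    rfl
  let l := Abelian.monoLift m₂ m₁ (key m₁ m₂ fun x => (hr x).le)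
  let l' := Abelian.monoLift m₁ m₂ (key m₂ m₁ fun x => (hr x).ge)
  have e1 : l ≫ m₂ = m₁ := Abelian.monoLift_comp _ _ _
  have e2 : l' ≫ m₁ = m₂ := Abelian.monoLift_comp _ _ _
  exact ⟨⟨l, l', by rw [← cancel_mono m₁, Category.assoc, e2, e1, Category.id_comp],
    by rw [← cancel_mono m₂, Category.assoc, e1, e2, Category.id_comp]⟩⟩

/-- The map `O_x → (O/J)_x`. -/
def quotMap (J : X.IdealSheafData) (x : X) : X.presheaf.stalk x →ₗ[X.presheaf.stalk x] (ClSub.quotMod J).presheaf.stalk x :=
  (st (ClSub.toSubscheme J) x).comp (strE x).toLinearMap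

theorem quotMap_surjective (J : X.IdealSheafData) (x : X) : Function.Surjective (quotMap J x) := by
  haveI := Groth.L21.RR.epi_toSubscheme J
  exact ((Groth.L21.Mod.epi_iff_stalk_surjective (ClSub.toSubscheme J)).1 inferInstance x).comp (strE x).surjective

theorem ker_quotMap (J : X.IdealSheafData) (x : X) : LinearMap.ker (quotMap J x) = stI J x := by
  haveI := Groth.L21.RR.epi_toSubscheme J
  ext r
  constructor
  · intro hr
    have hex := (Groth.L21.RR.shortExact_idealSeq J).exact.map (Groth.L00.Stk.F X x)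
    obtain ⟨u, hu⟩ := (ShortComplex.moduleCat_exact_iff _).1 hex (r • one X x) hr
    exact LinearMap.mem_range.2 ⟨u, hu⟩
  · intro hr
    obtain ⟨u, hu⟩ := LinearMap.mem_range.1 hr
    change st (ClSub.toSubscheme J) x (r • one X x) = 0
    have hu' : st (ClSub.idealModι J) x u = r • one X x := hu
    rw [← hu', ← Groth.L21.RR.st_comp,
      show ClSub.idealModι J ≫ ClSub.toSubscheme J = 0 from kernel.condition _, st, Functor.map_zero]
    rfl

variable [AlgebraicGeometry.IsNoetherian X] [AlgebraicGeometry.IsReduced X]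

omit [AlgebraicGeometry.IsNoetherian X] [AlgebraicGeometry.IsReduced X] in
/-- The trivialisation of a tensor product on a stalk is natural. -/
theorem tensorStalkEquiv_natural' {L A B : X.Modules} (g : A ⟶ B) {x : X} {e : L.presheaf.stalk x}
    (he : Function.Bijective fun a : X.presheaf.stalk x => a • e) (v : (CohB1.tensorMod L A).presheaf.stalk x) :
    Groth.L21.RR.tensorStalkEquiv B he (st (tensorMap (𝟙 L) g) x v) =
      st g x (Groth.L21.RR.tensorStalkEquiv A he v) := by
  have e1 : ((DCoh.tensorBi (X := X)).obj L).map g = tensorMap (𝟙 L) g := by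
    refine congrArg (Groth.L00.Tensor.shf X).map ?_
    rw [CategoryTheory.Functor.map_id]
    exact (MonoidalCategory.id_tensorHom _ _).symm
  rw [← e1]
  exact Groth.L21.RR.tensorStalkEquiv_natural g he v

omit [AlgebraicGeometry.IsNoetherian X] [AlgebraicGeometry.IsReduced X] in
/-- The image of `L ⊗ J → L` on stalks. -/
theorem range_tensor_idealModι {L : X.Modules} (hL : PicF.IsInvertible L) (J : X.IdealSheafData) (x : X) :
    LinearMap.range (st (tensorMap (𝟙 L) (ClSub.idealModι J) ≫
      (Groth.L00.Tensor.tensorUnitRight L).hom) x) =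
      stI J x • (⊤ : Submodule (X.presheaf.stalk x) (L.presheaf.stalk x)) := by
  obtain ⟨e, he⟩ := Groth.L21.RR.exists_frame_stalk hL x
  let T : CohB1.tensorMod L (ClSub.idealMod J) ⟶ CohB1.tensorMod L (Coh.structureModule X) :=
    tensorMap (𝟙 L) (ClSub.idealModι J)
  change LinearMap.range (st (T ≫ (Groth.L00.Tensor.tensorUnitRight L).hom) x) = _
  have h0 : LinearMap.range (st T x) = stI J x • (⊤ : Submodule (X.presheaf.stalk x)
      ((CohB1.tensorMod L (Coh.structureModule X)).presheaf.stalk x)) := by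
    let E := Groth.L21.RR.tensorStalkEquiv (Coh.structureModule X) he
    have h1 : LinearMap.range (st T x) =
        (LinearMap.range (st (ClSub.idealModι J) x)).comap E.toLinearMap := by
      ext v
      constructor
      · rintro ⟨u, rfl⟩
        exact ⟨_, (tensorStalkEquiv_natural' _ he u).symm⟩
      · rintro ⟨u, hu⟩
        refine ⟨(Groth.L21.RR.tensorStalkEquiv (ClSub.idealMod J) he).symm u, E.injective ?_⟩
        refine (tensorStalkEquiv_natural' _ he _).trans ?_
        rw [LinearEquiv.apply_symm_apply]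
        exact hu
    have h2 : LinearMap.range (st (ClSub.idealModι J) x) =
        stI J x • (⊤ : Submodule (X.presheaf.stalk x) ((Coh.structureModule X).presheaf.stalk x)) := by
      refine le_antisymm ?_ (Submodule.smul_le.2 fun r hr v _ => ?_)
      · rintro _ ⟨u, rfl⟩
        obtain ⟨r, hr⟩ := (bijective_smul_one x).2 (st (ClSub.idealModι J) x u)
        rw [← hr]
        exact Submodule.smul_mem_smul (LinearMap.mem_range.2 ⟨u, hr.symm⟩) Submodule.mem_top
      · obtain ⟨a, rfl⟩ := (bijective_smul_one x).2 v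
        rw [smul_comm]
        exact Submodule.smul_mem _ _ hr
    rw [h1, h2, Submodule.comap_equiv_eq_map_symm, Submodule.map_smul'', Submodule.map_top,
      LinearEquiv.range]
  have hu : Function.Surjective (st (Groth.L00.Tensor.tensorUnitRight L).hom x) :=
    ((Groth.L21.Mod.isIso_iff_stalk_bijective _).1 inferInstance x).2
  have hc : st (T ≫ (Groth.L00.Tensor.tensorUnitRight L).hom) x =
      (st (Groth.L00.Tensor.tensorUnitRight L).hom x).comp (st T x) :=
    LinearMap.ext fun v => Groth.L21.RR.st_comp _ _ x v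
  rw [hc, LinearMap.range_comp, h0, Submodule.map_smul'', Submodule.map_top, LinearMap.range_eq_top.2 hu]

section Local

variable (hd : topologicalKrullDim X ≤ 1) (hgen : ∀ z : X, ∃ w, ¬ IsClosed ({w} : Set X) ∧ w ⤳ z)
  {J J' : X.IdealSheafData} {A : Set X} (hJ : Van J A) (hJ' : Van J' Aᶜ)

include hd in
theorem stI_eq_top {J : X.IdealSheafData} {A : Set X} (hJ : Van J A) {w : X} (hwn : ¬ IsClosed ({w} : Set X))
    (hwA : w ∉ A) : stI J w = ⊤ := by
  rw [Ideal.eq_top_iff_one, hJ.mem_stI_iff hd]
  intro w' h hwn' hwA'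
  exact absurd ((Groth.L22.CurveDeg.eq_of_specializes_nonclosed hd hwn h) ▸ hwA') hwA

include hd hgen hJ hJ' in
theorem ann_stI {x : X} (a : X.presheaf.stalk x) : (∀ b ∈ stI J' x, b * a = 0) ↔ a ∈ stI J x := by
  rw [hJ.mem_stI_iff hd]
  constructor
  · intro h w hwx hwn hwA
    obtain ⟨V, hV, hxV, -⟩ := exists_isAffineOpen_mem_and_subset (x := x) (U := ⊤) trivial
    have hwV : w ∈ V := hwx.mem_open V.2 hxV
    have htop := stI_eq_top hd hJ' hwn (not_not.2 hwA)
    rw [stI_eq_map _ hV hwV] at htop
    obtain ⟨r, hr, hru⟩ : ∃ r ∈ J'.ideal ⟨V, hV⟩, X.presheaf.germ V w hwV r ≠ 0 := by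
      by_contra hh
      push Not at hh
      have hbot : (J'.ideal ⟨V, hV⟩).map (X.presheaf.germ V w hwV).hom ≤ ⊥ :=
        Ideal.map_le_iff_le_comap.2 fun r hr => Ideal.mem_comap.2 ((Submodule.mem_bot _).2 (hh r hr))
      rw [htop] at hbot
      exact one_ne_zero ((Submodule.mem_bot _).1 (hbot (Submodule.mem_top (x := (1 : X.presheaf.stalk w)))))
    have h1 := congrArg (X.presheaf.stalkSpecializes hwx).hom
      (h (X.presheaf.germ V x hxV r) (by rw [stI_eq_map _ hV hxV]; exact Ideal.mem_map_of_mem _ hr))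
    rw [map_mul, map_zero] at h1
    have e : (X.presheaf.stalkSpecializes hwx).hom (X.presheaf.germ V x hxV r) = X.presheaf.germ V w hwV r :=
      TopCat.Presheaf.germ_stalkSpecializes_apply _ _ _ _
    rw [e] at h1
    obtain ⟨c, hc⟩ := (Groth.L21.RedCurve.stalk_isField hd hwn).mul_inv_cancel hru
    exact ((IsUnit.of_mul_eq_one c hc).mul_right_eq_zero).1 h1
  · intro h b hb
    refine stalk_eq_zero hd hgen _ fun w hwx hwn => ?_
    rw [map_mul]
    by_cases hwA : w ∈ A
    · rw [h w hwx hwn hwA, mul_zero]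
    · rw [(hJ'.mem_stI_iff hd b).1 hb w hwx hwn hwA, zero_mul]

include hd hJ' in
theorem not_assPoint_quotMod {x : X} (hx : IsClosed ({x} : Set X)) : ¬ Curv2.IsAssPoint (ClSub.quotMod J') x := by
  intro h
  obtain ⟨φ, hφ⟩ := ((isAssociatedPrime_iff_exists_injective_linearMap _ _).1 h).2
  obtain ⟨a, ha⟩ := quotMap_surjective J' x (φ (Submodule.Quotient.mk 1))
  have hkill : ∀ b ∈ maximalIdeal (X.presheaf.stalk x), b * a ∈ stI J' x := fun b hb => by
    rw [← ker_quotMap, LinearMap.mem_ker, ← smul_eq_mul, map_smul, ha, ← map_smul, ← Submodule.Quotient.mk_smul,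
      smul_eq_mul, mul_one, (Submodule.Quotient.mk_eq_zero _).2 hb, map_zero]
  have ha' : a ∈ stI J' x := by
    rw [hJ'.mem_stI_iff hd]
    intro w hwx hwn hwA
    obtain ⟨V, hV, hxV, -⟩ := exists_isAffineOpen_mem_and_subset (x := x) (U := ⊤) trivial
    have hwV : w ∈ V := hwx.mem_open V.2 hxV
    obtain ⟨r, hrp, hrq⟩ : ∃ r, r ∈ (hV.primeIdealOf ⟨x, hxV⟩).asIdeal ∧ r ∉ (hV.primeIdealOf ⟨w, hwV⟩).asIdeal := by
      by_contra hh
      push Not at hh
      have hsp : hV.primeIdealOf ⟨x, hxV⟩ ⤳ hV.primeIdealOf ⟨w, hwV⟩ := (PrimeSpectrum.le_iff_specializes _ _).1 hh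
      have hxw : x ⤳ w := by
        have := hsp.map hV.fromSpec.continuous
        rwa [hV.fromSpec_primeIdealOf, hV.fromSpec_primeIdealOf] at this
      have hwx' : w = x := hxw.mem_closed hx rfl
      exact hwn (hwx' ▸ hx)
    have hbm : X.presheaf.germ V x hxV r ∈ maximalIdeal (X.presheaf.stalk x) := by
      letI := X.presheaf.algebra_section_stalk (⟨x, hxV⟩ : V)
      haveI := hV.isLocalization_stalk ⟨x, hxV⟩
      exact (IsLocalization.AtPrime.to_map_mem_maximal_iff (X.presheaf.stalk x)
        (hV.primeIdealOf ⟨x, hxV⟩).asIdeal r).2 hrp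
    have hu : IsUnit (X.presheaf.germ V w hwV r) := by
      letI := X.presheaf.algebra_section_stalk (⟨w, hwV⟩ : V)
      haveI := hV.isLocalization_stalk ⟨w, hwV⟩
      exact IsLocalization.map_units (X.presheaf.stalk w) (⟨r, hrq⟩ : (hV.primeIdealOf ⟨w, hwV⟩).asIdeal.primeCompl)
    have h1 := (hJ'.mem_stI_iff hd _).1 (hkill _ hbm) w hwx hwn hwA
    rw [map_mul] at h1
    have e : (X.presheaf.stalkSpecializes hwx).hom (X.presheaf.germ V x hxV r) = X.presheaf.germ V w hwV r :=
      TopCat.Presheaf.germ_stalkSpecializes_apply _ _ _ _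
    rw [e] at h1
    exact hu.mul_right_eq_zero.1 h1
  rw [← ker_quotMap, LinearMap.mem_ker, ha] at ha'
  exact (IsLocalRing.maximalIdeal.isMaximal _).ne_top
    ((Ideal.eq_top_iff_one _).2 ((Submodule.Quotient.mk_eq_zero _).1 (hφ (ha'.trans (map_zero φ).symm))))

include hd hgen hJ hJ' in
set_option maxHeartbeats 800000 in
/-- `Hom(O/J', L) = J ⊗ L` for invertible `L`. -/
theorem nonempty_hom_quot_iso {L : X.Modules} (hL : PicF.IsInvertible L) :
    Nonempty (RefHull.homSh (ClSub.quotMod J') L ≅ CohB1.tensorMod L (ClSub.idealMod J)) := by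
  haveI : Coh.IsQCoh L := (Groth.L16.ProperFinite.isCoh_of_isInvertible hL).1
  haveI := isIso_unitH L
  haveI := Groth.L21.RR.epi_toSubscheme J'
  let p := pre (ClSub.toSubscheme J') L
  have hps : ∀ x, Function.Surjective (st (ClSub.toSubscheme J') x) := fun x =>
    (Groth.L21.Mod.epi_iff_stalk_surjective (ClSub.toSubscheme J')).1 inferInstance x
  have evQ := fun y => Groth.L15.Ref.evalStalk_bijective (ClSub.quotMod J') L (Groth.L21.RR.isCoh_quotMod J') y
  have evO := fun y => Groth.L15.Ref.evalStalk_bijective (Coh.structureModule X) L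
    Groth.L16.CohClosedPush.isCoh_structure y
  haveI : Mono p := (Groth.L21.Mod.mono_iff_stalk_injective p).2 fun x θ θ' hθ => (evQ x).1 (LinearMap.ext fun v => by
    obtain ⟨w, rfl⟩ := hps x v
    have h1 := congrArg (RefHull.evalStalk (Coh.structureModule X) L x) hθ
    change RefHull.evalStalk (Coh.structureModule X) L x (st p x θ) =
      RefHull.evalStalk (Coh.structureModule X) L x (st p x θ') at h1
    rw [evalStalk_pre, evalStalk_pre] at h1
    exact LinearMap.congr_fun h1 w)
  haveI : Mono (ClSub.idealModι J) := inferInstanceAs (Mono (kernel.ι _))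
  let T : CohB1.tensorMod L (ClSub.idealMod J) ⟶ CohB1.tensorMod L (Coh.structureModule X) :=
    tensorMap (𝟙 L) (ClSub.idealModι J)
  have hframe : ∀ x, ∃ e : L.presheaf.stalk x, Function.Bijective fun a : X.presheaf.stalk x => a • e :=
    Groth.L21.RR.exists_frame_stalk hL
  haveI : Mono T := (Groth.L21.Mod.mono_iff_stalk_injective T).2 fun x v v' hv => by
    obtain ⟨e, he⟩ := hframe x
    apply (Groth.L21.RR.tensorStalkEquiv _ he).injective
    apply (Groth.L21.Mod.mono_iff_stalk_injective (ClSub.idealModι J)).1 inferInstance x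
    change st _ x _ = st _ x _
    rw [← tensorStalkEquiv_natural', ← tensorStalkEquiv_natural']
    exact congrArg _ hv
  refine nonempty_iso_of_range (p ≫ inv (unitH L)) (T ≫ (Groth.L00.Tensor.tensorUnitRight L).hom) fun x => ?_
  obtain ⟨e, he⟩ := hframe x
  have hr2 := range_tensor_idealModι hL J x
  have hU := (Groth.L21.Mod.isIso_iff_stalk_bijective (unitH L)).1 inferInstance x
  have hinv : ∀ θ, st (inv (unitH L)) x (st (unitH L) x θ) = θ := fun θ => by
    rw [← Groth.L21.RR.st_comp, IsIso.hom_inv_id]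
    simp [st]
  have hiff : ∀ v, st (unitH L) x v ∈ LinearMap.range (st p x) ↔ ∀ b ∈ stI J' x, b • v = 0 := by
    intro v
    constructor
    · rintro ⟨θ, hθ⟩ b hb
      have h1 := congrArg (RefHull.evalStalk (Coh.structureModule X) L x) hθ
      rw [evalStalk_pre, evalStalk_unitH] at h1
      have h2 := LinearMap.congr_fun h1 (strE x b)
      rw [LinearMap.smulRight_apply, LinearEquiv.coe_coe, LinearEquiv.symm_apply_apply] at h2
      rw [← h2, LinearMap.comp_apply,
        show st (ClSub.toSubscheme J') x (strE x b) = 0 from LinearMap.mem_ker.1 ((ker_quotMap J' x).ge hb), map_zero]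
    · intro hv
      let φ : (ClSub.quotMod J').presheaf.stalk x →ₗ[X.presheaf.stalk x] L.presheaf.stalk x :=
        (Submodule.liftQ (LinearMap.ker (quotMap J' x)) (LinearMap.toSpanSingleton _ _ v) fun b hb =>
          hv b ((ker_quotMap J' x).le hb)).comp
          ((quotMap J' x).quotKerEquivOfSurjective (quotMap_surjective J' x)).symm.toLinearMap
      obtain ⟨θ, hθ⟩ := (evQ x).2 φ
      refine ⟨θ, (evO x).1 ?_⟩
      rw [evalStalk_pre, evalStalk_unitH, hθ]
      refine LinearMap.ext fun w => ?_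
      obtain ⟨b, rfl⟩ := (strE x).surjective w
      rw [LinearMap.smulRight_apply, LinearEquiv.coe_coe, LinearEquiv.symm_apply_apply]
      change φ (quotMap J' x b) = _
      simp only [φ, LinearMap.comp_apply, LinearEquiv.coe_coe]
      rw [show ((quotMap J' x).quotKerEquivOfSurjective (quotMap_surjective J' x)).symm (quotMap J' x b) =
        Submodule.Quotient.mk b from (LinearEquiv.symm_apply_eq _).2 rfl]
      rfl
  rw [hr2]
  ext v
  have hv : v ∈ stI J x • (⊤ : Submodule (X.presheaf.stalk x) (L.presheaf.stalk x)) ↔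
      ∀ b ∈ stI J' x, b • v = 0 := by
    obtain ⟨c, rfl⟩ := he.2 v
    have h1 : (∀ b ∈ stI J' x, b • (c • e) = 0) ↔ c ∈ stI J x := by
      rw [← ann_stI hd hgen hJ hJ']
      refine forall₂_congr fun b _ => ?_
      rw [smul_smul]
      exact ⟨fun h0 => he.1 (h0.trans (zero_smul _ e).symm), fun h0 => by rw [h0, zero_smul]⟩
    refine Iff.trans ⟨fun hm => ?_, fun hc => Submodule.smul_mem_smul hc Submodule.mem_top⟩ h1.symm
    suffices hle : stI J x • (⊤ : Submodule (X.presheaf.stalk x) (L.presheaf.stalk x)) ≤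
        Submodule.map (LinearMap.toSpanSingleton (X.presheaf.stalk x) (L.presheaf.stalk x) e) (stI J x) by
      obtain ⟨a, ha, he'⟩ := hle hm
      rwa [show a = c from he.1 he'] at ha
    refine Submodule.smul_le.2 fun r hr w _ => ?_
    obtain ⟨a, rfl⟩ := he.2 w
    refine ⟨r * a, Ideal.mul_mem_right a _ hr, ?_⟩
    exact mul_smul r a e
  rw [hv, ← hiff, show st (p ≫ inv (unitH L)) x = (st (inv (unitH L)) x).comp (st p x) from
    LinearMap.ext fun v => Groth.L21.RR.st_comp _ _ x v, LinearMap.range_comp, Submodule.mem_map]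
  constructor
  · rintro ⟨θ, hθ, rfl⟩
    obtain ⟨v, rfl⟩ : ∃ v, st (unitH L) x v = θ := hU.2 θ
    rw [hinv]
    exact hθ
  · exact fun h => ⟨_, h, hinv v⟩

end Local

end Groth.L21.CurveAdj
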