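import Groth.Agent.L22.EnrSev.Conn
import Groth.Agent.L21.RR.Finite
import Groth.Agent.L21.PlaneCurve.Plane

/-!
The field of global functions of a connected reduced proper scheme; divisibility of dimensions.
-/

set_option autoImplicit false
set_option backward.isDefEq.respectTransparency false
set_option linter.style.haveILetI false
universe u

open CategoryTheory CategoryTheory.Limits AlgebraicGeometry Opposite TopologicalSpace

noncomputable section

namespace Groth.L21.CurveAdj

open Groth.L21.RR (h e0 oneSec)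

variable (k : Type u) [Field k] {Y : Scheme.{u}} [Y.Over (Spec (CommRingCat.of k))]

include k in
theorem isField_top [IsProper (Y ↘ Spec (CommRingCat.of k))] [AlgebraicGeometry.IsReduced Y] [ConnectedSpace Y] :
    IsField Γ(Y, ⊤) := by
  obtain ⟨y₀⟩ := (inferInstance : Nonempty Y)
  haveI : Nontrivial Γ(Y, ⊤) := (Y.presheaf.germ ⊤ y₀ trivial).hom.domain_nontrivial
  refine ⟨exists_pair_ne _, mul_comm, fun {a} ha => ?_⟩
  obtain ⟨y, hy⟩ : ∃ y, y ∈ Y.basicOpen a := by
    by_contra hh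
    exact ha ((basicOpen_eq_bot_iff a).1 (Opens.ext (Set.eq_empty_iff_forall_notMem.2 fun y hy => hh ⟨y, hy⟩)))
  have hu : IsUnit a := isUnit_of_isUnit_germ _ a fun z => Groth.L22.EnrSev.isUnit_germ_iff k a y z.1
    ((Y.mem_basicOpen a y trivial).1 hy)
  exact hu.exists_right_inv
where
  isUnit_of_isUnit_germ (U : Y.Opens) (a : Γ(Y, U)) (h : ∀ z : U, IsUnit (Y.presheaf.germ U z.1 z.2 a)) :
      IsUnit a :=
    Y.toRingedSpace.isUnit_of_isUnit_germ U a fun z hz => h ⟨z, hz⟩

/-- The `k`-algebra structure on the global functions. -/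
abbrev topAlgebra : Algebra k Γ(Y, ⊤) :=
  (show k →+* Γ(Y, ⊤) from Coh.toGlobal (Y ↘ Spec (CommRingCat.of k))).toAlgebra

theorem h0_eq_finrank :
    letI := topAlgebra k (Y := Y)
    h k 0 (Coh.structureModule Y) = Module.finrank k Γ(Y, ⊤) := by
  letI := topAlgebra k (Y := Y)
  let L : Coh.HH Y (Coh.structureModule Y) 0 →ₗ[k] Γ(Y, ⊤) :=
    { toFun := fun a => show Γ(Y, ⊤) from e0 (Coh.structureModule Y) a
      map_add' := fun a b => map_add (e0 (Coh.structureModule Y)) a b
      map_smul' := fun c a => Groth.L21.RR.e0_smul k (Coh.structureModule Y) c a }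
  exact LinearEquiv.finrank_eq (LinearEquiv.ofBijective L (e0 (Coh.structureModule Y)).bijective)

/-- Over the field of global functions all cohomology spaces are vector spaces. -/
theorem dvd_h (hF : IsField Γ(Y, ⊤)) (M : Y.Modules) (p : ℕ) :
    h k 0 (Coh.structureModule Y) ∣ h k p M := by
  letI := topAlgebra k (Y := Y)
  letI := hF.toField
  letI : Module Γ(Y, ⊤) (Coh.HH Y M p) := Module.compHom _ (RingHom.id (Coh.Γtop Y))
  haveI : IsScalarTower k Γ(Y, ⊤) (Coh.HH Y M p) := IsScalarTower.of_algebraMap_smul fun r x => rfl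
  refine ⟨Module.finrank Γ(Y, ⊤) (Coh.HH Y M p), ?_⟩
  rw [h0_eq_finrank]
  exact (Module.finrank_mul_finrank k Γ(Y, ⊤) (Coh.HH Y M p)).symm

variable {Z : Scheme.{u}} [Z.Over (Spec (CommRingCat.of k))]

/-- For `f : Z → Y` over `k` with `Γ(Y)` a field: `h⁰(Y) ∣ h⁰(Z)`, and equality makes `f^*` bijective. -/
theorem dvd_h0_of_hom (f : Z ⟶ Y) (hf : f ≫ (Y ↘ Spec (CommRingCat.of k)) = Z ↘ Spec (CommRingCat.of k))
    (hF : IsField Γ(Y, ⊤)) [IsProper (Z ↘ Spec (CommRingCat.of k))] [Nonempty Z] :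
    h k 0 (Coh.structureModule Y) ∣ h k 0 (Coh.structureModule Z) ∧ 0 < h k 0 (Coh.structureModule Z) ∧
      (h k 0 (Coh.structureModule Z) = h k 0 (Coh.structureModule Y) → Function.Bijective f.appTop) := by
  haveI := Groth.L21.RR.isNoetherian_of_proper (X := Z) k
  letI := topAlgebra k (Y := Y)
  letI := topAlgebra k (Y := Z)
  letI := hF.toField
  letI : Algebra Γ(Y, ⊤) Γ(Z, ⊤) := (show Γ(Y, ⊤) →+* Γ(Z, ⊤) from f.appTop.hom).toAlgebra
  haveI : IsScalarTower k Γ(Y, ⊤) Γ(Z, ⊤) := IsScalarTower.of_algebraMap_eq fun c =>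
    congrArg (fun g : Z ⟶ Spec (CommRingCat.of k) => Coh.toGlobal g c) hf.symm
  haveI : Module.Finite k (Coh.HH Z (Coh.structureModule Z) 0) :=
    Groth.L21.RR.finite_HH' (X := Z) k Groth.L16.CohClosedPush.isCoh_structure 0
  let L : Coh.HH Z (Coh.structureModule Z) 0 →ₗ[k] Γ(Z, ⊤) :=
    { toFun := fun a => show Γ(Z, ⊤) from e0 (Coh.structureModule Z) a
      map_add' := fun a b => map_add (e0 (Coh.structureModule Z)) a b
      map_smul' := fun c a => Groth.L21.RR.e0_smul k (Coh.structureModule Z) c a }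
  haveI : Module.Finite k Γ(Z, ⊤) :=
    Module.Finite.equiv (LinearEquiv.ofBijective L (e0 (Coh.structureModule Z)).bijective)
  obtain ⟨z₀⟩ := (inferInstance : Nonempty Z)
  haveI : Nontrivial Γ(Z, ⊤) := (Z.presheaf.germ ⊤ z₀ trivial).hom.domain_nontrivial
  haveI : Module.Finite Γ(Y, ⊤) Γ(Z, ⊤) := Module.Finite.of_restrictScalars_finite k _ _
  have hmul : Module.finrank k Γ(Y, ⊤) * Module.finrank Γ(Y, ⊤) Γ(Z, ⊤) = Module.finrank k Γ(Z, ⊤) :=
    Module.finrank_mul_finrank k Γ(Y, ⊤) Γ(Z, ⊤)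
  rw [h0_eq_finrank, h0_eq_finrank]
  have hpos : 0 < Module.finrank k Γ(Z, ⊤) := Module.finrank_pos
  refine ⟨⟨_, hmul.symm⟩, hpos, fun he => ?_⟩
  have h1 : Module.finrank Γ(Y, ⊤) Γ(Z, ⊤) = 1 := by
    have h2 : 0 < Module.finrank k Γ(Y, ⊤) := by
      rcases Nat.eq_zero_or_pos (Module.finrank k Γ(Y, ⊤)) with h0 | h0
      · rw [h0, zero_mul] at hmul; omega
      · exact h0
    exact Nat.eq_of_mul_eq_mul_left h2 (by rw [hmul, he, mul_one])
  refine ⟨(algebraMap Γ(Y, ⊤) Γ(Z, ⊤)).injective, fun z => ?_⟩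
  obtain ⟨c, hc⟩ := exists_smul_eq_of_finrank_eq_one h1 (one_ne_zero (α := Γ(Z, ⊤))) z
  exact ⟨c, by rw [← hc, Algebra.smul_def, mul_one]; rfl⟩

/-- A bijection on global functions over `k` preserves `h⁰`. -/
theorem h0_eq_of_bijective (f : Z ⟶ Y) (hf : f ≫ (Y ↘ Spec (CommRingCat.of k)) = Z ↘ Spec (CommRingCat.of k))
    (hb : Function.Bijective f.appTop) : h k 0 (Coh.structureModule Z) = h k 0 (Coh.structureModule Y) := by
  letI := topAlgebra k (Y := Y)
  letI := topAlgebra k (Y := Z)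
  rw [h0_eq_finrank, h0_eq_finrank]
  refine (LinearEquiv.finrank_eq (LinearEquiv.ofBijective (AlgHom.toLinearMap
    ({ (show Γ(Y, ⊤) →+* Γ(Z, ⊤) from f.appTop.hom) with
      commutes' := fun c => congrArg (fun g : Z ⟶ Spec (CommRingCat.of k) => Coh.toGlobal g c) hf } :
      Γ(Y, ⊤) →ₐ[k] Γ(Z, ⊤))) hb)).symm

include k in
/-- A finite proper scheme whose functions form a field is a reduced point. -/
theorem point_of_isField [IsProper (Y ↘ Spec (CommRingCat.of k))] [Finite Y] [T1Space Y] (hF : IsField Γ(Y, ⊤)) :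
    Subsingleton Y ∧ AlgebraicGeometry.IsReduced Y := by
  haveI : IsLocalRing Γ(Y, ⊤) := by
    letI := hF.toField
    infer_instance
  haveI : ConnectedSpace Y := Groth.L16.Connected.connectedSpace_of_isLocalRing
  haveI : DiscreteTopology Y := inferInstance
  haveI hss : Subsingleton Y := ⟨fun a b => PreconnectedSpace.constant (f := id) inferInstance continuous_id⟩
  refine ⟨hss, ?_⟩
  haveI : ∀ y : Y, _root_.IsReduced (Y.presheaf.stalk y) := fun y => by
    haveI : _root_.IsReduced Γ(Y, ⊤) := by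
      letI := hF.toField
      infer_instance
    have hsur : Function.Surjective (Y.presheaf.germ ⊤ y trivial) := fun v => by
      obtain ⟨U, hyU, s, rfl⟩ := TopCat.Presheaf.exists_germ_eq Y.presheaf v
      have hle : (⊤ : Y.Opens) ≤ U := fun z _ => Subsingleton.elim y z ▸ hyU
      exact ⟨Y.presheaf.map (homOfLE hle).op s, Y.presheaf.germ_res_apply (homOfLE hle) y trivial s⟩
    haveI : Nontrivial (Y.presheaf.stalk y) := inferInstance
    letI := hF.toField
    exact isReduced_of_injective (RingEquiv.ofBijective (Y.presheaf.germ ⊤ y trivial).hom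
      ⟨RingHom.injective _, hsur⟩).symm.toRingHom (RingEquiv.injective _)
  exact isReduced_of_isReduced_stalk Y

end Groth.L21.CurveAdj
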