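import Groth.Agent.L21.CurveAdj.Components

/-!
Without rational tails, subcurves have `deg(ω|_Y) ≥ h¹(O_Y)`.
-/

set_option autoImplicit false
set_option backward.isDefEq.respectTransparency false
set_option backward.isDefEq.respectTransparency.types false
set_option linter.style.haveILetI false
universe u

open CategoryTheory CategoryTheory.Limits AlgebraicGeometry Opposite TopologicalSpace

noncomputable section

namespace Groth.L21.CurveAdj

open Groth.L21.RR (h SuppClosed)
open Groth.L22.CurveDeg (phi)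
open Groth.L16.CohSupport (len)
open Groth.L21.CurveGor (Setup)

variable {X : Scheme.{u}}

theorem len_quotMod [AlgebraicGeometry.IsNoetherian X] [AlgebraicGeometry.IsReduced X]
    (hd : topologicalKrullDim X ≤ 1) {J : X.IdealSheafData} {A : Set X} (hJ : Van J A) {y : X}
    (hy : ¬ IsClosed ({y} : Set X)) [Decidable (y ∈ A)] :
    len y (ClSub.quotMod J) = if y ∈ A then 1 else 0 := by
  have e := ((quotMap J y).quotKerEquivOfSurjective (quotMap_surjective J y)).length_eq
  rw [ker_quotMap] at e
  change Module.length (X.presheaf.stalk y) ((ClSub.quotMod J).presheaf.stalk y) = _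
  rw [← e]
  split_ifs with hA
  · have hbot : stI J y = ⊥ := by
      refine eq_bot_iff.2 fun r hr => (Submodule.mem_bot _).2 ?_
      have h1 := (hJ.mem_stI_iff hd r).1 hr y specializes_rfl hy hA
      rwa [TopCat.Presheaf.stalkSpecializes_refl] at h1
    rw [hbot, (Submodule.quotEquivOfEqBot ⊥ rfl).length_eq, Module.length_eq_one_iff]
    letI := (Groth.L21.RedCurve.stalk_isField hd hy).toField
    infer_instance
  · rw [stI_eq_top hd hJ hy hA]
    exact Module.length_eq_zero

variable {k : Type u} [Field k] [X.Over (Spec (CommRingCat.of k))] [IsProper (X ↘ Spec (CommRingCat.of k))]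
  [AlgebraicGeometry.IsReduced X] [ConnectedSpace X]

/-- On a curve without rational tails the dualizing module has degree at least the genus on subcurves. -/
theorem genus_le_deg {ω : X.Modules} {t : Coh.HH X ω 1 →ₗ[k] k} (S : Setup k X ω t)
    (hgenX : ∀ z : X, ∃ w, ¬ IsClosed ({w} : Set X) ∧ w ⤳ z) (hinv : PicF.IsInvertible ω)
    (hnt : ∀ (C : Set X) (hC : C ∈ irreducibleComponents (X : Type u)), ¬ Curv2.IsRationalTail X C hC)
    (J : X.IdealSheafData) [AlgebraicGeometry.IsReduced J.subscheme] [ConnectedSpace J.subscheme]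
    (hgen : ∀ y ∈ (J.support : Set X), ∃ w ∈ (J.support : Set X), ¬ IsClosed ({w} : Set X) ∧ w ⤳ y)
    (hne : (J.support : Set X) ≠ Set.univ) :
    (h k 1 (ClSub.quotMod J) : ℤ) ≤
      @Curv2.deg k _ J.subscheme ⟨J.subschemeι ≫ (X ↘ Spec (CommRingCat.of k))⟩
        ((Scheme.Modules.pullback J.subschemeι).obj ω) 1 := by
  classical
  haveI := Groth.L21.RR.isNoetherian_of_proper (X := X) k
  obtain ⟨d, a, m, ⟨-, -, -, hdeg⟩, hd, ha, hm, hdpos, ⟨a', ha'⟩, ⟨m', hm'⟩, hmpos, hcne, -⟩ :=
    subcurve S hgenX hinv J hgen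
  have hmp := hmpos (hcne hne)
  rw [hdeg, ha]
  by_contra hlt
  push Not at hlt
  -- genus zero, meeting the rest in `d`
  obtain rfl : a' = 0 := by
    by_contra h0
    have h1 : d ≤ a := ha' ▸ Nat.le_mul_of_pos_right d (Nat.pos_of_ne_zero h0)
    have h2 : d ≤ m := hm' ▸ Nat.le_mul_of_pos_right d (Nat.pos_of_mul_pos_left (hm' ▸ hmp))
    omega
  rw [mul_zero] at ha'
  subst ha'
  have hmd : m = d := by
    rcases m' with _ | _ | m'
    · simp [hm'] at hmp
    · rw [hm']; simp
    · have : 2 * d ≤ m := by rw [hm', mul_comm 2 d]; exact Nat.mul_le_mul_left d (by omega)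
      omega
  -- a component with negative degree
  have hJ := van_of_isReduced S.hd J hgen
  have hE := Groth.L12.FinCov.isFinLocFreeOfRank_one_of_isInvertible hinv
  let N := (Groth.L22.CurveDeg.finite_nonclosed S.hd).toFinset
  have hN : ∀ x, x ∈ N ↔ ¬ IsClosed ({x} : Set X) := fun x => Set.Finite.mem_toFinset _
  let G : X → X.Modules := fun y =>
    ClSub.quotMod (Scheme.IdealSheafData.vanishingIdeal ⟨closure {y}, isClosed_closure⟩)
  have hcomp : ∀ y, ¬ IsClosed ({y} : Set X) → closure {y} ∈ irreducibleComponents (X : Type u) := by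
    intro y hy
    refine ⟨isIrreducible_singleton.closure, fun Z hZ hle => ?_⟩
    obtain ⟨η, hη⟩ := QuasiSober.sober hZ.closure isClosed_closure
    have hηy : η ⤳ y := hη.specializes (subset_closure (hle (subset_closure rfl)))
    have e : η = y := Groth.L21.RedCurve.maximal_of_not_isClosed S.hd hy η hηy
    subst e
    exact subset_closure.trans hη.def.ge
  have hvanC : ∀ y, ¬ IsClosed ({y} : Set X) →
      Van (Scheme.IdealSheafData.vanishingIdeal ⟨closure {y}, isClosed_closure⟩) (closure {y}) := by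
    intro y hy
    obtain ⟨hr, -, hg⟩ := component hgenX (closure {y}) (hcomp y hy)
    haveI := hr
    have := van_of_isReduced S.hd _ hg
    rwa [coe_support_IC] at this
  have hphi : phi k ω 1 (ClSub.quotMod J) =
      ∑ y ∈ N, ((len y (ClSub.quotMod J)).toNat : ℤ) * phi k ω 1 (G y) := by
    refine Groth.L22.CurveDeg.phi_eq_sum k S.hd hE N hN G (fun y hy => ?_) (Groth.L21.RR.isCoh_quotMod J)
    refine ⟨Groth.L21.RR.isCoh_quotMod _, ?_, ?_⟩
    · intro z hz
      by_contra hzc
      exact hz (Groth.L21.RR.subsingleton_stalk_quotMod _ fun hh =>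
        hzc ((Scheme.IdealSheafData.coe_support_vanishingIdeal _).le hh))
    · rw [len_quotMod S.hd (hvanC y ((hN y).1 hy)) ((hN y).1 hy), if_pos (show y ∈ closure ({y} : Set X) from subset_closure rfl)]
  have hneg : phi k ω 1 (ClSub.quotMod J) < 0 := by
    rw [phi_quotMod S hgenX hinv hJ (van_ker_compl hgenX _ J.support.isClosed), Groth.L21.RR.euler_eq k S.hd,
      show (h k 0 (ClSub.quotMod (J ⊔ compl J)) : ℕ) = m from hm, hd, ha]
    omega
  rw [hphi] at hneg
  obtain ⟨y, hyN, hy⟩ : ∃ y ∈ N, phi k ω 1 (G y) < 0 := by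
    by_contra hh
    push Not at hh
    exact absurd (Finset.sum_nonneg fun y hy => mul_nonneg (Int.natCast_nonneg _) (hh y hy)) (not_le.2 hneg)
  let C : Set X := closure {y}
  have hC := hcomp y ((hN y).1 hyN)
  obtain ⟨hr, hc, hg⟩ := component hgenX C hC
  haveI := hr
  haveI := hc
  obtain ⟨d', b, n, ⟨-, hYb, -, -⟩, hd', hb, hn, hd'pos, ⟨b', hb'⟩, ⟨n', hn'⟩, hnpos, hcne', htail⟩ :=
    subcurve S hgenX hinv (IC C hC) hg
  have hv := van_of_isReduced S.hd (IC C hC) hg
  have hdeg' : phi k ω 1 (G y) = -2 * (d' : ℤ) + 2 * b + n := by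
    change phi k ω 1 (ClSub.quotMod (IC C hC)) = _
    rw [phi_quotMod S hgenX hinv hv (van_ker_compl hgenX _ (IC C hC).support.isClosed),
      Groth.L21.RR.euler_eq k S.hd, hn, hd', hb]
    ring
  rw [hdeg'] at hy
  have hCne : ((compl (IC C hC)).support : Set X).Nonempty := by
    refine hcne' fun huniv => ?_
    -- otherwise `J` is everything
    rw [coe_support_IC] at huniv
    obtain ⟨w₀⟩ := (inferInstance : Nonempty J.subscheme)
    have hz : J.subschemeι w₀ ∈ (J.support : Set X) := by
      rw [← Scheme.IdealSheafData.range_subschemeι]; exact ⟨w₀, rfl⟩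
    obtain ⟨w, hwJ, hwn, -⟩ := hgen _ hz
    have hyw : w = y := Groth.L21.RedCurve.maximal_of_not_isClosed S.hd hwn y
      (specializes_iff_mem_closure.2 (huniv.ge (Set.mem_univ w))) |>.symm
    subst hyw
    exact hne (Set.eq_univ_of_univ_subset (huniv.ge.trans
      (closure_minimal (Set.singleton_subset_iff.2 hwJ) J.support.isClosed)))
  have hnp := hnpos hCne
  have hn2 : d' ≤ n := hn' ▸ Nat.le_mul_of_pos_right d' (Nat.pos_of_mul_pos_left (hn' ▸ hnp))
  obtain rfl : b' = 0 := by
    by_contra h0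
    have h1 : d' ≤ b := hb' ▸ Nat.le_mul_of_pos_right d' (Nat.pos_of_ne_zero h0)
    omega
  rw [mul_zero] at hb'
  subst hb'
  have hnd : n = d' := by
    rcases n' with _ | _ | n'
    · simp [hn'] at hnp
    · rw [hn']; simp
    · have : 2 * d' ≤ n := by rw [hn', mul_comm 2 d']; exact Nat.mul_le_mul_left d' (by omega)
      omega
  obtain ⟨hNK, hSK, hRK, hev⟩ := htail hnd
  revert hCne hNK hSK hRK hev
  rw [compl_IC C hC]
  intro hCne hNK hSK hRK hev
  refine hnt C hC ⟨hCne, hNK, hSK, hRK, hev, ?_⟩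
  letI : (IC C hC).subscheme.Over (Spec (CommRingCat.of k)) := ⟨(IC C hC).subschemeι ≫ (X ↘ Spec (CommRingCat.of k))⟩
  haveI : IsProper ((IC C hC).subscheme ↘ Spec (CommRingCat.of k)) :=
    inferInstanceAs (IsProper ((IC C hC).subschemeι ≫ (X ↘ Spec (CommRingCat.of k))))
  haveI := Groth.L21.RR.isNoetherian_of_proper (X := (IC C hC).subscheme) k
  haveI : Module.Finite k (Coh.HH (IC C hC).subscheme (Coh.structureModule (IC C hC).subscheme) 1) :=
    Groth.L21.RR.finite_HH' (X := (IC C hC).subscheme) k Groth.L16.CohClosedPush.isCoh_structure 1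
  exact Module.finrank_zero_iff.1 hYb

end Groth.L21.CurveAdj
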