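import Groth.Agent.L21.CurveAdj.Degree
import Groth.Agent.L21.CurveAdj.GlobalField
import Groth.Agent.L21.CurveDual.Reduced
import Groth.Agent.L21.Nodal.Gorenstein
import Groth.Agent.L22.CurveAmple.Section
import Groth.Agent.L18.KerReduced

/-!
Nodal curves: the dualizing module on subcurves, rational tails and bridges.
-/

set_option autoImplicit false
set_option backward.isDefEq.respectTransparency false
set_option backward.isDefEq.respectTransparency.types false
set_option linter.style.haveILetI false
universe u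

open CategoryTheory CategoryTheory.Limits AlgebraicGeometry Opposite TopologicalSpace

noncomputable section

namespace Groth.L21.CurveAdj

open Groth.L21.RR (st h SuppClosed)
open Groth.L21.CurveGor (Setup)

variable {k : Type u} [Field k] {X : Scheme.{u}} [X.Over (Spec (CommRingCat.of k))]
  [IsProper (X ↘ Spec (CommRingCat.of k))]

/-- A nodal curve with constants as functions: connected, reduced, all points generalise to non-closed ones,
Gorenstein with invertible dualizing module. -/
theorem nodal_setup (hdim : topologicalKrullDim X = 1)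
    (h0 : h k 0 (Coh.structureModule X) = 1) (hX : Curv2.AtWorstNodal k X) :
    ConnectedSpace X ∧ AlgebraicGeometry.IsReduced X ∧ (∀ z : X, ∃ w, ¬ IsClosed ({w} : Set X) ∧ w ⤳ z) ∧
      ∀ (ω : X.Modules) (t : Coh.HH X ω 1 →ₗ[k] k), Canon.IsRDualOver k X 1 ω t →
        Setup k X ω t ∧ PicF.IsInvertible ω := by
  haveI := Groth.L21.RR.isNoetherian_of_proper (X := X) k
  haveI hconn : ConnectedSpace X := Groth.L21.PlaneCurve.connectedSpace_of_h0_eq_one (k := k) h0
  have hgen : ∀ z : X, ∃ w, ¬ IsClosed ({w} : Set X) ∧ w ⤳ z := Groth.L21.CurveDual.exists_nonclosed_gen hdim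
  have hcl : Groth.L21.Nodal.CurveLike X := by
    refine ⟨fun a b c hab hbc => ?_, fun x hx => ?_⟩
    · exact Groth.L21.RR.Top.spec_of_dim_le_one (X := X.toTopCat) hdim.le a b c hab hbc
    · obtain ⟨w, hw, hwx⟩ := hgen x
      exact ⟨w, fun e => hw (e ▸ hx), hwx⟩
  haveI : ∀ x : X, _root_.IsReduced (X.presheaf.stalk x) := fun x =>
    (Groth.L21.Nodal.isGorensteinLocalRing_and_isReduced_stalk hcl hX x).2
  haveI hred : AlgebraicGeometry.IsReduced X := isReduced_of_isReduced_stalk X
  refine ⟨hconn, hred, hgen, fun ω t hω => ?_⟩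
  have S : Setup k X ω t :=
    { hd := hdim.le
      hω := hω
      hnf := fun x hx => Groth.L21.Nodal.not_isField_stalk_of_curveLike hcl x hx
      hopen := fun x hx ho => by
        obtain ⟨w, hw, hwx⟩ := hgen x
        exact hw ((hwx.mem_open ho rfl : w = x) ▸ hx) }
  exact ⟨S, S.isInvertible fun x _ => (Groth.L21.Nodal.isGorensteinLocalRing_and_isReduced_stalk hcl hX x).1⟩

/-- The complementary ideal. -/
abbrev compl (J : X.IdealSheafData) : X.IdealSheafData :=
  (Scheme.Opens.ι (⟨(J.support : Set X)ᶜ, J.support.isClosed.isOpen_compl⟩ : X.Opens)).ker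

variable [AlgebraicGeometry.IsReduced X] [ConnectedSpace X]

/-- Degree, genus and intersection with the rest, for a connected union of components. -/
theorem subcurve {ω : X.Modules} {t : Coh.HH X ω 1 →ₗ[k] k} (S : Setup k X ω t)
    (hgenX : ∀ z : X, ∃ w, ¬ IsClosed ({w} : Set X) ∧ w ⤳ z) (hinv : PicF.IsInvertible ω) (J : X.IdealSheafData)
    [AlgebraicGeometry.IsReduced J.subscheme] [ConnectedSpace J.subscheme]
    (hgen : ∀ y ∈ (J.support : Set X), ∃ w ∈ (J.support : Set X), ¬ IsClosed ({w} : Set X) ∧ w ⤳ y) :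
    ∃ d a m : ℕ,
      (letI : J.subscheme.Over (Spec (CommRingCat.of k)) := ⟨J.subschemeι ≫ (X ↘ Spec (CommRingCat.of k))⟩
       h k 0 (Coh.structureModule J.subscheme) = d ∧ h k 1 (Coh.structureModule J.subscheme) = a ∧
       Curv2.euler k J.subscheme (Coh.structureModule J.subscheme) = (d : ℤ) - a ∧
       Curv2.deg k J.subscheme ((Scheme.Modules.pullback J.subschemeι).obj ω) 1 = -2 * (d : ℤ) + 2 * a + m) ∧
      h k 0 (ClSub.quotMod J) = d ∧ h k 1 (ClSub.quotMod J) = a ∧ h k 0 (ClSub.quotMod (J ⊔ compl J)) = m ∧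
      0 < d ∧ d ∣ a ∧ d ∣ m ∧ (((compl J).support : Set X).Nonempty → 0 < m) ∧
      ((J.support : Set X) ≠ Set.univ → ((compl J).support : Set X).Nonempty) ∧
      (m = d → Nonempty (J ⊔ compl J).subscheme ∧ Subsingleton (J ⊔ compl J).subscheme ∧
        AlgebraicGeometry.IsReduced (J ⊔ compl J).subscheme ∧
        ∀ c : (J ⊔ compl J).subscheme, Function.Bijective (J.subscheme.evaluation ⊤
          ((Scheme.IdealSheafData.inclusion (le_sup_left : J ≤ J ⊔ compl J)).base c) trivial)) := by
  classical
  haveI := Groth.L21.RR.isNoetherian_of_proper (X := X) k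
  haveI : X.IsSeparated := ⟨by rw [← Limits.terminal.comp_from (X ↘ Spec (CommRingCat.of k))]; infer_instance⟩
  let K := J ⊔ compl J
  letI iY : J.subscheme.Over (Spec (CommRingCat.of k)) := ⟨J.subschemeι ≫ (X ↘ Spec (CommRingCat.of k))⟩
  haveI : IsProper (J.subscheme ↘ Spec (CommRingCat.of k)) :=
    inferInstanceAs (IsProper (J.subschemeι ≫ (X ↘ Spec (CommRingCat.of k))))
  letI iK : K.subscheme.Over (Spec (CommRingCat.of k)) := ⟨K.subschemeι ≫ (X ↘ Spec (CommRingCat.of k))⟩
  haveI : IsProper (K.subscheme ↘ Spec (CommRingCat.of k)) :=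
    inferInstanceAs (IsProper (K.subschemeι ≫ (X ↘ Spec (CommRingCat.of k))))
  haveI : IsLocallyNoetherian J.subscheme := LocallyOfFiniteType.isLocallyNoetherian J.subschemeι
  haveI := Groth.L21.RR.isNoetherian_of_proper (X := J.subscheme) k
  haveI := Groth.L21.RR.isNoetherian_of_proper (X := K.subscheme) k
  have hpush : ∀ (I : X.IdealSheafData) (p : ℕ),
      letI : I.subscheme.Over (Spec (CommRingCat.of k)) := ⟨I.subschemeι ≫ (X ↘ Spec (CommRingCat.of k))⟩
      h k p (Coh.structureModule I.subscheme) = h k p (ClSub.quotMod I) := fun I p => by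
    letI : I.subscheme.Over (Spec (CommRingCat.of k)) := ⟨I.subschemeι ≫ (X ↘ Spec (CommRingCat.of k))⟩
    haveI : IsLocallyNoetherian I.subscheme := LocallyOfFiniteType.isLocallyNoetherian I.subschemeι
    obtain ⟨e⟩ := Groth.L03.Euler.exists_HH_push_linearEquiv (k := k) I.subschemeι (Coh.structureModule I.subscheme)
      Groth.L16.CohClosedPush.isCoh_structure.1 rfl p
    exact e.finrank_eq
  have hJ : Van J (J.support : Set X) := van_of_isReduced S.hd J hgen
  have hJ' : Van (compl J) (J.support : Set X)ᶜ := van_ker_compl hgenX _ J.support.isClosed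
  have hdegY := deg_pullback S hgenX hinv hJ hJ'
  have hdY : topologicalKrullDim J.subscheme ≤ 1 :=
    J.subschemeι.isClosedEmbedding.isInducing.topologicalKrullDim_le.trans S.hd
  have hF := isField_top k (Y := J.subscheme)
  let d := h k 0 (Coh.structureModule J.subscheme)
  let a := h k 1 (Coh.structureModule J.subscheme)
  let m := h k 0 (ClSub.quotMod K)
  have hchi : Curv2.euler k J.subscheme (Coh.structureModule J.subscheme) = (d : ℤ) - a :=
    Groth.L21.RR.euler_eq k hdY _
  have hdpos : 0 < d := by
    obtain ⟨y₀⟩ := (inferInstance : Nonempty J.subscheme)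
    haveI : Nontrivial Γ(J.subscheme, ⊤) := (J.subscheme.presheaf.germ ⊤ y₀ trivial).hom.domain_nontrivial
    haveI : Module.Finite k (Coh.HH J.subscheme (Coh.structureModule J.subscheme) 0) :=
      Groth.L21.RR.finite_HH' (X := J.subscheme) k Groth.L16.CohClosedPush.isCoh_structure 0
    haveI : Nontrivial (Coh.HH J.subscheme (Coh.structureModule J.subscheme) 0) :=
      ⟨(Groth.L21.RR.e0 _).symm (Groth.L21.RR.oneSec J.subscheme), 0, fun hh => one_ne_zero (α := Γ(J.subscheme, ⊤))
        ((Groth.L21.RR.e0 (Coh.structureModule J.subscheme)).symm.injective (hh.trans (map_zero _).symm))⟩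
    exact Module.finrank_pos
  let incl : K.subscheme ⟶ J.subscheme := Scheme.IdealSheafData.inclusion (le_sup_left : J ≤ K)
  have hincl : incl ≫ (J.subscheme ↘ Spec (CommRingCat.of k)) = K.subscheme ↘ Spec (CommRingCat.of k) := by
    change incl ≫ J.subschemeι ≫ _ = K.subschemeι ≫ _
    rw [← Category.assoc, Scheme.IdealSheafData.inclusion_subschemeι]
  have hKh : h k 0 (Coh.structureModule K.subscheme) = m := hpush K 0
  have hempty : IsEmpty K.subscheme → m = 0 := fun hE => by
    rw [← hKh]
    haveI : Subsingleton Γ(K.subscheme, ⊤) :=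
      subsingleton_of_forall_eq 0 fun s => TopCat.Presheaf.section_ext K.subscheme.sheaf ⊤ s 0 fun z _ => hE.elim z
    exact Groth.L21.RR.h_eq_zero_of_subsingleton k ((Groth.L21.RR.e0 _).toEquiv.subsingleton_congr.2
      (inferInstanceAs (Subsingleton Γ(K.subscheme, ⊤))))
  have hdm : d ∣ m := by
    rcases isEmpty_or_nonempty K.subscheme with hE | hN
    · rw [hempty hE]; exact dvd_zero _
    · rw [← hKh]; exact (dvd_h0_of_hom k incl hincl hF).1
  -- the rest of the curve
  let U : X.Opens := ⟨(J.support : Set X)ᶜ, J.support.isClosed.isOpen_compl⟩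
  have hsupp' : ((compl J).support : Set X) = closure (J.support : Set X)ᶜ := by
    change ((Scheme.Opens.ι U).ker.support : Set X) = _
    rw [Scheme.Hom.support_ker, Scheme.Opens.range_ι]
    rfl
  have hKne : ((compl J).support : Set X).Nonempty → Nonempty K.subscheme := by
    intro hne
    have huniv : (Set.univ : Set X) ⊆ (J.support : Set X) ∪ ((compl J).support : Set X) := fun z _ => by
      by_cases hz : z ∈ (J.support : Set X)
      · exact Or.inl hz
      · exact Or.inr (hsupp'.ge (subset_closure hz))
    obtain ⟨y⟩ := (inferInstance : Nonempty J.subscheme)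
    have hy : J.subschemeι y ∈ (J.support : Set X) := by
      rw [← Scheme.IdealSheafData.range_subschemeι]; exact ⟨y, rfl⟩
    obtain ⟨z, -, hz⟩ := isPreconnected_closed_iff.1 isPreconnected_univ _ _ J.support.isClosed
      (compl J).support.isClosed huniv ⟨_, trivial, hy⟩ (by obtain ⟨z, hz⟩ := hne; exact ⟨z, trivial, hz⟩)
    have hzK : z ∈ Set.range K.subschemeι := by
      rw [Scheme.IdealSheafData.range_subschemeι, Scheme.IdealSheafData.support_sup]
      exact hz
    obtain ⟨c, -⟩ := hzK
    exact ⟨c⟩
  refine ⟨d, a, m, ⟨rfl, rfl, hchi, ?_⟩, (hpush J 0).symm, (hpush J 1).symm, rfl, hdpos,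
    dvd_h k hF _ 1, hdm, fun hne => ?_, fun hne => ?_, fun hmd => ?_⟩
  · rw [hdegY, hchi]
    ring
  · haveI := hKne hne
    rw [← hKh]
    exact (dvd_h0_of_hom k incl hincl hF).2.1
  · obtain ⟨z, hz⟩ := (Set.ne_univ_iff_exists_notMem _).1 hne
    exact ⟨z, hsupp'.ge (subset_closure hz)⟩
  · haveI hN : Nonempty K.subscheme := by
      by_contra hh
      rw [not_nonempty_iff] at hh
      have := hempty hh
      omega
    have hbij := (dvd_h0_of_hom k incl hincl hF).2.2 (hKh.trans hmd)
    have hFK : IsField Γ(K.subscheme, ⊤) :=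
      (RingEquiv.ofBijective incl.appTop.hom hbij).symm.toMulEquiv.isField hF
    have hclosed : ∀ c : K.subscheme, IsClosed ({c} : Set K.subscheme) := fun c => by
      suffices hc : IsClosed ({K.subschemeι c} : Set X) by
        have := hc.preimage K.subschemeι.continuous
        rwa [← Set.image_singleton (f := K.subschemeι),
          Set.preimage_image_eq _ K.subschemeι.isClosedEmbedding.injective] at this
      by_contra hcn
      have hcK : K.subschemeι c ∈ (K.support : Set X) := by
        rw [← Scheme.IdealSheafData.range_subschemeι]; exact ⟨c, rfl⟩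
      refine Groth.L22.CurveAmple.mem_support_quotMod K hcK ?_
      refine subsingleton_of_forall_eq 0 fun v => ?_
      obtain ⟨r, rfl⟩ := quotMap_surjective K (K.subschemeι c) v
      rw [← LinearMap.mem_ker, ker_quotMap, stI_sup]
      by_cases hA : K.subschemeι c ∈ (J.support : Set X)
      · rw [stI_eq_top S.hd hJ' hcn (not_not.2 hA), sup_top_eq]; exact Submodule.mem_top
      · rw [stI_eq_top S.hd hJ hcn hA, top_sup_eq]; exact Submodule.mem_top
    haveI : T1Space K.subscheme := ⟨hclosed⟩
    haveI : Finite K.subscheme := by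
      have hfin := NoetherianSpace.finite_irreducibleComponents (α := K.subscheme)
      refine Set.finite_univ_iff.1 ((hfin.biUnion (t := fun Z => Z) fun Z hZ => ?_).subset fun c _ => ?_)
      · obtain ⟨η, hη⟩ := QuasiSober.sober hZ.1 (isClosed_of_mem_irreducibleComponents Z hZ)
        rw [← hη.def, (hclosed η).closure_eq]
        exact Set.finite_singleton η
      · exact Set.mem_biUnion (irreducibleComponent_mem_irreducibleComponents c) mem_irreducibleComponent
    obtain ⟨hss, hredK⟩ := point_of_isField k (Y := K.subscheme) hFK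
    refine ⟨hN, hss, hredK, fun c => ?_⟩
    letI := hFK.toField
    have hK : Function.Surjective (K.subscheme.Γevaluation c) := fun z => by
      obtain ⟨v, rfl⟩ := IsLocalRing.residue_surjective z
      obtain ⟨W, hcW, s, rfl⟩ := TopCat.Presheaf.exists_germ_eq K.subscheme.presheaf v
      have hle : (⊤ : K.subscheme.Opens) ≤ W := fun z _ => hss.elim c z ▸ hcW
      refine ⟨K.subscheme.presheaf.map (homOfLE hle).op s, ?_⟩
      change K.subscheme.residue c (K.subscheme.presheaf.germ ⊤ c trivial _) = _
      rw [K.subscheme.presheaf.germ_res_apply (homOfLE hle) c trivial s]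
      rfl
    letI := hF.toField
    refine ⟨RingHom.injective (J.subscheme.Γevaluation (incl c)).hom, fun z => ?_⟩
    obtain ⟨b, hb⟩ := hK (incl.residueFieldMap c z)
    obtain ⟨a', rfl⟩ := hbij.2 b
    refine ⟨a', (incl.residueFieldMap c).hom.injective ?_⟩
    exact (Scheme.Γevaluation_naturality_apply incl c a').trans hb

end Groth.L21.CurveAdj
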