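import Groth.Agent.L21.CurveAdj.Marked
import Groth.Agent.L18.AmpleGG

/-!
Pointed nodal curves: the dualizing module twisted by marked points.
-/

set_option autoImplicit false
set_option backward.isDefEq.respectTransparency false
set_option backward.isDefEq.respectTransparency.types false
set_option linter.style.haveILetI false
universe u

open CategoryTheory CategoryTheory.Limits AlgebraicGeometry Opposite TopologicalSpace

noncomputable section

namespace Groth.L21.CurveAdj

open Groth.L21.RR (h st e0 oneSec SuppClosed finite_HH')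
open Groth.L22.CurveDeg (phi)
open Groth.L21.CurveGor (Setup)

variable {k : Type u} [Field k] {X : Scheme.{u}} [X.Over (Spec (CommRingCat.of k))]
  [IsProper (X ↘ Spec (CommRingCat.of k))]

/-- Connected nodal curves are reduced. -/
theorem nodal_reduced [ConnectedSpace X] (hdim : topologicalKrullDim X = 1) (hX : Curv2.AtWorstNodal k X) :
    AlgebraicGeometry.IsReduced X ∧ (∀ z : X, ∃ w, ¬ IsClosed ({w} : Set X) ∧ w ⤳ z) := by
  haveI := Groth.L21.RR.isNoetherian_of_proper (X := X) k
  have hgen : ∀ z : X, ∃ w, ¬ IsClosed ({w} : Set X) ∧ w ⤳ z := Groth.L21.CurveDual.exists_nonclosed_gen hdim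
  have hcl : Groth.L21.Nodal.CurveLike X := by
    refine ⟨fun a b c hab hbc => ?_, fun x hx => ?_⟩
    · exact Groth.L21.RR.Top.spec_of_dim_le_one (X := X.toTopCat) hdim.le a b c hab hbc
    · obtain ⟨w, hw, hwx⟩ := hgen x
      exact ⟨w, fun e => hw (e ▸ hx), hwx⟩
  haveI : ∀ x : X, _root_.IsReduced (X.presheaf.stalk x) := fun x =>
    (Groth.L21.Nodal.isGorensteinLocalRing_and_isReduced_stalk hcl hX x).2
  exact ⟨isReduced_of_isReduced_stalk X, hgen⟩

theorem degOn_congr {L M : X.Modules} (e : L ≅ M) (J : X.IdealSheafData) : degOn k L J = degOn k M J := by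
  letI : J.subscheme.Over (Spec (CommRingCat.of k)) := ⟨J.subschemeι ≫ (X ↘ Spec (CommRingCat.of k))⟩
  exact Groth.L21.RR.deg_congr k ((Scheme.Modules.pullback J.subschemeι).mapIso e) 1

theorem degOn_tensor (hd : topologicalKrullDim X ≤ 1) {L M : X.Modules} (hL : PicF.IsInvertible L)
    (hM : PicF.IsInvertible M) (J : X.IdealSheafData) :
    degOn k (CohB1.tensorMod L M) J = degOn k L J + degOn k M J := by
  letI : J.subscheme.Over (Spec (CommRingCat.of k)) := ⟨J.subschemeι ≫ (X ↘ Spec (CommRingCat.of k))⟩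
  haveI : IsProper (J.subscheme ↘ Spec (CommRingCat.of k)) :=
    inferInstanceAs (IsProper (J.subschemeι ≫ (X ↘ Spec (CommRingCat.of k))))
  have hdJ : topologicalKrullDim J.subscheme ≤ 1 :=
    J.subschemeι.isClosedEmbedding.isInducing.topologicalKrullDim_le.trans hd
  have h1 := Groth.L22.CurveDeg.deg_tensor_locFree k hdJ
    (Groth.L12.FinCov.isFinLocFreeOfRank_one_of_isInvertible (Groth.L18.Ample.isInvertible_pullback J.subschemeι hL))
    (Groth.L12.FinCov.isFinLocFreeOfRank_one_of_isInvertible (Groth.L18.Ample.isInvertible_pullback J.subschemeι hM))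
  rw [mul_one] at h1
  change Curv2.deg k J.subscheme ((Scheme.Modules.pullback J.subschemeι).obj (CohB1.tensorMod L M)) 1 = _
  rw [Groth.L21.RR.deg_congr k (Groth.L29.DC.PullTensor.pullTensor J.subschemeι L M).symm, h1]
  push_cast
  ring

theorem degOn_pow (hd : topologicalKrullDim X ≤ 1) {L : X.Modules} (hL : PicF.IsInvertible L)
    (J : X.IdealSheafData) (n : ℕ) : degOn k (CohB1.tensorPow L n) J = n * degOn k L J := by
  letI : J.subscheme.Over (Spec (CommRingCat.of k)) := ⟨J.subschemeι ≫ (X ↘ Spec (CommRingCat.of k))⟩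
  haveI : IsProper (J.subscheme ↘ Spec (CommRingCat.of k)) :=
    inferInstanceAs (IsProper (J.subschemeι ≫ (X ↘ Spec (CommRingCat.of k))))
  have hdJ : topologicalKrullDim J.subscheme ≤ 1 :=
    J.subschemeι.isClosedEmbedding.isInducing.topologicalKrullDim_le.trans hd
  change Curv2.deg k J.subscheme ((Scheme.Modules.pullback J.subschemeι).obj (CohB1.tensorPow L n)) 1 = _
  rw [Groth.L21.RR.deg_congr k (Groth.L18.Ample.pullPow J.subschemeι L n),
    deg_tensorPow hdJ (Groth.L18.Ample.isInvertible_pullback J.subschemeι hL) n]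

variable [AlgebraicGeometry.IsReduced X]

/-- Nonnegative on components, nonnegative on subcurves. -/
theorem degOn_nonneg_of_components (hd : topologicalKrullDim X ≤ 1)
    (hgen : ∀ z : X, ∃ w, ¬ IsClosed ({w} : Set X) ∧ w ⤳ z) {L : X.Modules} (hL : PicF.IsInvertible L)
    (hC : ∀ (C : Set X) (hC : C ∈ irreducibleComponents (X : Type u)), 0 ≤ degOn k L (IC C hC))
    (J : X.IdealSheafData) [AlgebraicGeometry.IsReduced J.subscheme] [ConnectedSpace J.subscheme]
    (hJ : topologicalKrullDim J.subscheme = 1) : 0 ≤ degOn k L J := by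
  classical
  haveI := Groth.L21.RR.isNoetherian_of_proper (X := X) k
  let N := (Groth.L22.CurveDeg.finite_nonclosed hd).toFinset
  have hN : ∀ x, x ∈ N ↔ ¬ IsClosed ({x} : Set X) := fun x => Set.Finite.mem_toFinset _
  rw [degOn_eq_sum hd hgen hL (van_of_isReduced hd J (gen_of_dim_one J hJ)) N hN]
  exact Finset.sum_nonneg fun y hy =>
    hC (closure {y}) (closure_mem_components hd ((hN y).1 (Finset.mem_filter.1 hy).1))

/-- A globally generated module has nonnegative degree on components. -/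
theorem degOn_nonneg_of_gg (hd : topologicalKrullDim X ≤ 1) {L : X.Modules} (hL : PicF.IsInvertible L)
    (hgg : Curv2.IsGloballyGenerated L) (C : Set X) (hC : C ∈ irreducibleComponents (X : Type u)) :
    0 ≤ degOn k L (IC C hC) := by
  haveI := Groth.L21.RR.isNoetherian_of_proper (X := X) k
  haveI := isIntegral_IC C hC
  set J := IC C hC
  letI : J.subscheme.Over (Spec (CommRingCat.of k)) := ⟨J.subschemeι ≫ (X ↘ Spec (CommRingCat.of k))⟩
  haveI : IsProper (J.subscheme ↘ Spec (CommRingCat.of k)) :=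
    inferInstanceAs (IsProper (J.subschemeι ≫ (X ↘ Spec (CommRingCat.of k))))
  haveI := Groth.L21.RR.isNoetherian_of_proper (X := J.subscheme) k
  have hdJ : topologicalKrullDim J.subscheme ≤ 1 :=
    J.subschemeι.isClosedEmbedding.isInducing.topologicalKrullDim_le.trans hd
  have hLY := Groth.L18.Ample.isInvertible_pullback J.subschemeι hL
  obtain ⟨s, hs⟩ := exists_section_of_gg hL hgg (J.subschemeι (genericPoint J.subscheme))
  have h1 : genericPoint J.subscheme ∈ CohB1.genLocus _ (Groth.L18.Ample.pullHom J.subschemeι s) := by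
    rw [Groth.L18.Ample.genLocus_pullHom J.subschemeι hL s]
    exact (mem_genLocus_iff' hL s _).2 hs
  have hne : Groth.L18.Ample.pullHom J.subschemeι s ≠ 0 := fun h0 => by
    have h2 := (mem_genLocus_iff' hLY _ _).1 h1
    obtain ⟨en, hen⟩ := Groth.L21.RR.exists_frame_stalk hLY (genericPoint J.subscheme)
    obtain ⟨v, hv⟩ := h2 en
    rw [h0] at hv
    have he0 : en = 0 := hv.symm.trans (st_zero' _ v)
    exact one_ne_zero (hen.1 (show (1 : J.subscheme.presheaf.stalk (genericPoint J.subscheme)) • en =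
      (0 : J.subscheme.presheaf.stalk (genericPoint J.subscheme)) • en by rw [he0, smul_zero, smul_zero]))
  change 0 ≤ Curv2.deg k J.subscheme ((Scheme.Modules.pullback J.subschemeι).obj L) 1
  rw [Groth.L21.RR.deg_eq_h0_cokernel k hdJ hLY hne]
  exact Int.natCast_nonneg _
where
  exists_section_of_gg {L : X.Modules} (hL : PicF.IsInvertible L) (hgg : Curv2.IsGloballyGenerated L) (x : X) :
      ∃ s : Coh.structureModule X ⟶ L, Function.Surjective (st s x) := by
    obtain ⟨s, hs⟩ := Groth.L18.Ample.exists_genLocus_mem_of_gg hL hgg x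
    exact ⟨s, (mem_genLocus_iff' hL s x).1 hs⟩

variable [IsAlgClosed k] [ConnectedSpace X] (hX : Curv2.AtWorstNodal k X) {ω : X.Modules}
  {t : Coh.HH X ω 1 →ₗ[k] k} (S : Setup k X ω t)
  (hgenX : ∀ z : X, ∃ w, ¬ IsClosed ({w} : Set X) ∧ w ⤳ z) (hinv : PicF.IsInvertible ω)
  {D : Set X} (hDcl : IsClosed D) (hDfin : D.Finite) (hpts : ∀ x ∈ D, IsClosed ({x} : Set X)) {N M : X.Modules}
  (hN : ClSub.IsInverseOf N (ClSub.idealMod (Scheme.IdealSheafData.vanishingIdeal ⟨D, hDcl⟩)))
  (hM : Nonempty (M ≅ CohB1.tensorMod ω N))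

include hX S hgenX hinv hDfin hpts hN hM in
/-- The twisted dualizing module on subcurves. -/
theorem pointed_data :
    PicF.IsInvertible M ∧ Curv2.deg k X M 1 = 2 * (Curv2.genus k X : ℤ) - 2 + Nat.card D ∧
    ∀ (J : X.IdealSheafData), AlgebraicGeometry.IsReduced J.subscheme → ConnectedSpace J.subscheme →
      topologicalKrullDim J.subscheme = 1 →
      ∃ a m e : ℕ, @h J.subscheme k _ ⟨J.subschemeι ≫ (X ↘ Spec (CommRingCat.of k))⟩ 1
          (Coh.structureModule J.subscheme) = a ∧
        ((J.support : Set X) ∩ closure ((J.support : Set X)ᶜ)).ncard = m ∧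
        Nat.card ↥(D ∩ (J.support : Set X)) = e ∧
        degOn k M J = 2 * (a : ℤ) - 2 + m + e ∧
        (1 ≤ m ∨ (m = 0 ∧ a = Curv2.genus k X ∧ e = Nat.card D)) := by
  haveI := Groth.L21.RR.isNoetherian_of_proper (X := X) k
  obtain ⟨eM⟩ := hM
  obtain ⟨hNinv, hNdeg, hNon⟩ := degOn_inverse (k := k) S.hd hgenX hDcl hDfin hpts hN
  refine ⟨Groth.L18.Ample.isInvertible_of_iso eM.symm (Groth.L18.GenLoc.isInvertible_tensor hinv hNinv), ?_,
    fun J hred hconn hdim => ?_⟩
  · have h1 := Groth.L22.CurveDeg.deg_tensor_locFree k S.hd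
      (Groth.L12.FinCov.isFinLocFreeOfRank_one_of_isInvertible hinv)
      (Groth.L12.FinCov.isFinLocFreeOfRank_one_of_isInvertible hNinv)
    rw [mul_one] at h1
    rw [Groth.L21.RR.deg_congr k eM, h1, hNdeg, Curv2.deg, Groth.L21.CurveDual.euler_eq_neg S.hd S.hω S.assO,
      Groth.L21.RR.euler_eq k S.hd, h0_eq_one_of_connected]
    simp only [h, Curv2.genus]
    push_cast
    ring
  haveI := hred
  haveI := hconn
  have hgJ := gen_of_dim_one J hdim
  obtain ⟨a, m, ha, -, hm, hw, hc⟩ := subcurve_data S hgenX hinv J hdim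
  have hVJ := van_of_isReduced S.hd J hgJ
  have hVc := van_ker_compl hgenX _ J.support.isClosed
  have hcard := h0_inter_eq_card (k := k) hX S.hd hgenX hVJ hVc
  have hs : ((J ⊔ compl J).support : Set X) = (J.support : Set X) ∩ closure ((J.support : Set X)ᶜ) := by
    rw [Scheme.IdealSheafData.support_sup, TopologicalSpace.Closeds.coe_inf, Scheme.Hom.support_ker,
      Scheme.Opens.range_ι]
    rfl
  rw [complV_eq_compl S.hd hgenX J] at hm
  refine ⟨a, m, _, ha, ?_, rfl, ?_, ?_⟩
  · rw [← hm, ← hs]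
    exact hcard.symm
  · rw [degOn_congr eM J, degOn_tensor S.hd hinv hNinv J, hw, hNon J.support.isClosed hVJ hgJ]
  · rcases hc with hc | ⟨hm0, hag, hall⟩
    · exact Or.inl hc
    · refine Or.inr ⟨hm0, hag, ?_⟩
      have h1 := hall N hNinv
      rw [hNon J.support.isClosed hVJ hgJ, hNdeg] at h1
      exact_mod_cast h1

include hX S hgenX hinv hDfin hpts hN hM in
/-- No `H¹` and global generation for the powers. -/
theorem pointed_powers
    (hcomp : ∀ (C : Set X) (hC : C ∈ irreducibleComponents (X : Type u)), 0 ≤ degOn k M (IC C hC))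
    (hpos : 0 < 2 * (Curv2.genus k X : ℤ) - 2 + Nat.card D) (l : ℕ) (hl : 2 ≤ l) :
    Subsingleton (Coh.HH X (CohB1.tensorPow M l) 1) ∧ Curv2.IsGloballyGenerated (CohB1.tensorPow M l) := by
  haveI := Groth.L21.RR.isNoetherian_of_proper (X := X) k
  obtain ⟨hMinv, -, hdata⟩ := pointed_data hX S hgenX hinv hDcl hDfin hpts hN hM
  have hL := Groth.L18.Ample.isInvertible_tensorPow hMinv l
  have hdeg : ∀ J : X.IdealSheafData, AlgebraicGeometry.IsReduced J.subscheme → ConnectedSpace J.subscheme →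
      topologicalKrullDim J.subscheme = 1 →
      2 * (@h J.subscheme k _ ⟨J.subschemeι ≫ (X ↘ Spec (CommRingCat.of k))⟩ 1
          (Coh.structureModule J.subscheme) : ℤ) ≤
        degOn k (CohB1.tensorPow M l) J := by
    intro J h1 h2 h3
    haveI := h1
    haveI := h2
    obtain ⟨a, m, e, ha, -, -, hw, hc⟩ := hdata J h1 h2 h3
    rw [ha, degOn_pow S.hd hMinv J l]
    have hw0 := degOn_nonneg_of_components S.hd hgenX hMinv hcomp J h3
    have h2a : 2 * (a : ℤ) ≤ 2 * degOn k M J := by
      rcases hc with hc | ⟨hm0, hag, he⟩ <;> omega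
    exact h2a.trans (mul_le_mul_of_nonneg_right (by exact_mod_cast hl) hw0)
  exact ⟨subsingleton_h1_of_deg_subcurves S.hd hL hdeg,
    Groth.L21.RedCurve.isGloballyGenerated_of_deg_subcurves k S.hd hL hdeg⟩

omit [IsAlgClosed k] [ConnectedSpace X] in
include hgenX in
/-- A point on two sides has no smooth neighbourhood. -/
theorem notMem_smooth_of_inter (hd : topologicalKrullDim X ≤ 1) {J : X.IdealSheafData} (hVJ : Van J (J.support : Set X))
    {x : X} (hxJ : x ∈ (J.support : Set X)) (hxc : x ∈ closure ((J.support : Set X)ᶜ))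
    (U : X.Opens) (hxU : x ∈ U) : ¬ Smooth (U.ι ≫ (X ↘ Spec (CommRingCat.of k))) := by
  intro hU
  haveI := Groth.L21.RR.isNoetherian_of_proper (X := X) k
  have hVc := van_ker_compl hgenX _ J.support.isClosed
  have hxK : x ∈ ((J ⊔ compl J).support : Set X) := by
    rw [Scheme.IdealSheafData.support_sup, TopologicalSpace.Closeds.coe_inf, Scheme.Hom.support_ker,
      Scheme.Opens.range_ι]
    exact ⟨hxJ, hxc⟩
  haveI := Groth.L21.Smooth.regular_stalk (U.ι ≫ (X ↘ Spec (CommRingCat.of k))) ⟨x, hxU⟩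
  haveI : IsRegularLocalRing (X.presheaf.stalk x) :=
    IsRegularLocalRing.of_ringEquiv (U.stalkIso ⟨x, hxU⟩).commRingCatIsoToRingEquiv
  haveI : IsDomain (X.presheaf.stalk x) := Groth.L01.isDomain_of_regular _
  have hPQ : ∀ a, (∀ b ∈ stI J x, b * a = 0) ↔ a ∈ stI (compl J) x := fun a =>
    ann_stI (A := (J.support : Set X)ᶜ) hd hgenX hVc ((compl_compl (J.support : Set X)).symm ▸ hVJ) a
  have hQP : ∀ a, (∀ b ∈ stI (compl J) x, b * a = 0) ↔ a ∈ stI J x := fun a => ann_stI hd hgenX hVJ hVc a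
  refine Groth.L22.CurveAmple.mem_support_quotMod (J ⊔ compl J) hxK (subsingleton_of_forall_eq 0 fun v => ?_)
  obtain ⟨r, rfl⟩ := quotMap_surjective (J ⊔ compl J) x v
  rw [← LinearMap.mem_ker, ker_quotMap, stI_sup]
  by_cases hP : stI J x = ⊥
  · refine Ideal.mem_sup_right ((hPQ r).1 fun b hb => ?_)
    rw [hP, Ideal.mem_bot] at hb
    rw [hb, zero_mul]
  · obtain ⟨p, hp, hp0⟩ := Submodule.exists_mem_ne_zero_of_ne_bot hP
    refine Ideal.mem_sup_left ((hQP r).1 fun b hb => ?_)
    have h1 : p * b = 0 := (hPQ b).2 hb p hp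
    rw [(mul_eq_zero.1 h1).resolve_left hp0, zero_mul]

end Groth.L21.CurveAdj
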