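import Groth.Agent.L21.CurveAdj.Pointed
import Groth.Agent.L21.RedCurve.VeryAmple

/-!
Very ampleness of the powers of an ample twisted dualizing module.
-/

set_option autoImplicit false
set_option backward.isDefEq.respectTransparency false
set_option backward.isDefEq.respectTransparency.types false
set_option linter.style.haveILetI false
universe u

open CategoryTheory CategoryTheory.Limits AlgebraicGeometry Opposite TopologicalSpace

noncomputable section

namespace Groth.L21.CurveAdj

open Groth.L21.RR (h)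
open Groth.L21.CurveGor (Setup)

variable {k : Type u} [Field k] [IsAlgClosed k] {X : Scheme.{u}} [X.Over (Spec (CommRingCat.of k))]
  [IsProper (X ↘ Spec (CommRingCat.of k))] [AlgebraicGeometry.IsReduced X]

/-- `Big` in terms of the genus of subcurves. -/
theorem big_of_deg (hd : topologicalKrullDim X ≤ 1) {L : X.Modules}
    (hdeg : ∀ J : X.IdealSheafData, AlgebraicGeometry.IsReduced J.subscheme → ConnectedSpace J.subscheme →
      topologicalKrullDim J.subscheme = 1 →
      2 * (@h J.subscheme k _ ⟨J.subschemeι ≫ (X ↘ Spec (CommRingCat.of k))⟩ 1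
          (Coh.structureModule J.subscheme) : ℤ) + 1 ≤ degOn k L J) :
    Groth.L21.RedCurve.VA.Big k L := by
  intro J hred hconn hdim
  haveI := hred
  haveI := hconn
  letI : J.subscheme.Over (Spec (CommRingCat.of k)) := ⟨J.subschemeι ≫ (X ↘ Spec (CommRingCat.of k))⟩
  haveI : IsProper (J.subscheme ↘ Spec (CommRingCat.of k)) :=
    inferInstanceAs (IsProper (J.subschemeι ≫ (X ↘ Spec (CommRingCat.of k))))
  have h1 := Groth.L21.RR.euler_eq k hdim.le (Coh.structureModule J.subscheme)
  rw [h0_eq_one_of_connected (k := k)] at h1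
  have h2 := hdeg J hred hconn hdim
  change -2 * Curv2.euler k J.subscheme (Coh.structureModule J.subscheme) + 2 < _
  rw [h1]
  push_cast
  linarith

variable [ConnectedSpace X] (hX : Curv2.AtWorstNodal k X) {ω : X.Modules}
  {t : Coh.HH X ω 1 →ₗ[k] k} (S : Setup k X ω t)
  (hgenX : ∀ z : X, ∃ w, ¬ IsClosed ({w} : Set X) ∧ w ⤳ z) (hinv : PicF.IsInvertible ω)
  {D : Set X} (hDcl : IsClosed D) (hDfin : D.Finite) (hpts : ∀ x ∈ D, IsClosed ({x} : Set X)) {N M : X.Modules}
  (hN : ClSub.IsInverseOf N (ClSub.idealMod (Scheme.IdealSheafData.vanishingIdeal ⟨D, hDcl⟩)))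
  (hM : Nonempty (M ≅ CohB1.tensorMod ω N))

include hX S hgenX hinv hDfin hpts hN hM in
/-- From the fifth power on. -/
theorem pointed_big (hA : CohB1.IsAmple M) (l : ℕ) (hl : 5 ≤ l) :
    Groth.L21.RedCurve.VA.Big k (CohB1.tensorPow M l) := by
  obtain ⟨hMinv, -, hdata⟩ := pointed_data hX S hgenX hinv hDcl hDfin hpts hN hM
  refine big_of_deg S.hd fun J h1 h2 h3 => ?_
  haveI := h1
  haveI := h2
  obtain ⟨a, m, e, ha, -, -, hw, hc⟩ := hdata J h1 h2 h3
  rw [ha, degOn_pow S.hd hMinv J l]
  have hpos := (degOn_of_ample (k := k) S.hd hgenX hMinv hA J h3).1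
  refine le_trans ?_ (mul_le_mul_of_nonneg_right (show (5 : ℤ) ≤ l by exact_mod_cast hl) hpos.le)
  rcases hc with hc | ⟨hm0, -, -⟩ <;> omega

end Groth.L21.CurveAdj
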