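import Groth.Agent.L21.CurveAdj.Balanced
import Groth.Agent.L21.CurveAdj.Delta
import Groth.Agent.L21.CurveAdj.Powers
import Groth.Agent.L21.RR.GenusZeroPoint
import Groth.Agent.L21.RR.ProjLineGenus
import Groth.Agent.L08.Cube.NoCurve
import Groth.Prelude.Def_StCurv

/-!
Rational tails and bridges of nodal curves as smooth rational components with at most two special points.
-/

set_option autoImplicit false
set_option backward.isDefEq.respectTransparency false
set_option backward.isDefEq.respectTransparency.types false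
set_option linter.style.haveILetI false
universe u

open CategoryTheory CategoryTheory.Limits AlgebraicGeometry Opposite TopologicalSpace
attribute [local instance] Curv2.resAlgebra

noncomputable section

namespace Groth.L21.CurveAdj

open Groth.L21.RR (h e0)

variable {k : Type u} [Field k] [IsAlgClosed k] {X : Scheme.{u}} [X.Over (Spec (CommRingCat.of k))]
  [IsProper (X ↘ Spec (CommRingCat.of k))]

theorem isReduced_of_nodal [ConnectedSpace X] (hdim : topologicalKrullDim X = 1) (hX : Curv2.AtWorstNodal k X) :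
    AlgebraicGeometry.IsReduced X ∧ ∀ z : X, ∃ w, ¬ IsClosed ({w} : Set X) ∧ w ⤳ z := by
  haveI := Groth.L21.RR.isNoetherian_of_proper (X := X) k
  have hgen : ∀ z : X, ∃ w, ¬ IsClosed ({w} : Set X) ∧ w ⤳ z := Groth.L21.CurveDual.exists_nonclosed_gen hdim
  have hcl : Groth.L21.Nodal.CurveLike X := by
    refine ⟨fun a b c hab hbc => ?_, fun x hx => ?_⟩
    · exact Groth.L21.RR.Top.spec_of_dim_le_one (X := X.toTopCat) hdim.le a b c hab hbc
    · obtain ⟨w, hw, hwx⟩ := hgen x
      exact ⟨w, fun e => hw (e ▸ hx), hwx⟩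
  haveI : ∀ x : X, _root_.IsReduced (X.presheaf.stalk x) := fun x =>
    (Groth.L21.Nodal.isGorensteinLocalRing_and_isReduced_stalk hcl hX x).2
  exact ⟨isReduced_of_isReduced_stalk X, hgen⟩

variable [AlgebraicGeometry.IsReduced X] (hd : topologicalKrullDim X ≤ 1)
  (hgen : ∀ z : X, ∃ w, ¬ IsClosed ({w} : Set X) ∧ w ⤳ z)

omit [IsAlgClosed k] [AlgebraicGeometry.IsReduced X] in
include k in
theorem coe_support_IX' (C : Set X) (hC : C ∈ irreducibleComponents (X : Type u)) :
    ((IX' C hC).support : Set X) = closure Cᶜ := by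
  haveI := Groth.L21.RR.isNoetherian_of_proper (X := X) k
  rw [IX', Scheme.Hom.support_ker, Scheme.Opens.range_ι]
  rfl

omit [IsAlgClosed k] [AlgebraicGeometry.IsReduced X] in
include k in
theorem meetPts_eq (C : Set X) (hC : C ∈ irreducibleComponents (X : Type u)) :
    CurvSt.meetPts X C = ((IC C hC ⊔ IX' C hC).support : Set X) := by
  haveI := Groth.L21.RR.isNoetherian_of_proper (X := X) k
  rw [Scheme.IdealSheafData.support_sup, TopologicalSpace.Closeds.coe_inf, coe_support_IC,
    coe_support_IX' (k := k)]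
  ext p
  refine ⟨fun ⟨hp, E, hE, hne, hpE⟩ => ⟨hp, ?_⟩, fun ⟨hp, hp'⟩ => ⟨hp, ?_⟩⟩
  · have hsub : E ⊆ closure (E ∩ Cᶜ) :=
      subset_closure_inter_of_isPreirreducible_of_isOpen hE.1.2 (isClosed_of_mem_irreducibleComponents C hC).isOpen_compl
        (by
          by_contra hh
          rw [Set.not_nonempty_iff_eq_empty] at hh
          refine hne (subset_antisymm ?_ (hE.2 hC.1 ?_))
          · intro x hx
            by_contra hxC
            exact (Set.eq_empty_iff_forall_notMem.1 hh x) ⟨hx, hxC⟩
          · intro x hx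
            by_contra hxC
            exact (Set.eq_empty_iff_forall_notMem.1 hh x) ⟨hx, hxC⟩)
    exact closure_mono Set.inter_subset_right (hsub hpE)
  · haveI : NoetherianSpace X := inferInstance
    have hfin : (irreducibleComponents (X : Type u)).Finite := NoetherianSpace.finite_irreducibleComponents
    have hcov : Cᶜ ⊆ ⋃ E ∈ irreducibleComponents (X : Type u) \ {C}, E := fun x hx => by
      refine Set.mem_iUnion₂.2 ⟨irreducibleComponent x, ⟨irreducibleComponent_mem_irreducibleComponents x, ?_⟩,
        mem_irreducibleComponent⟩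
      intro he
      exact hx (he ▸ mem_irreducibleComponent)
    have hcl : IsClosed (⋃ E ∈ irreducibleComponents (X : Type u) \ {C}, E) :=
      (hfin.subset Set.diff_subset).isClosed_biUnion fun E hE => isClosed_of_mem_irreducibleComponents E hE.1
    obtain ⟨E, ⟨hE, hne⟩, hpE⟩ := Set.mem_iUnion₂.1 (closure_minimal hcov hcl hp')
    exact ⟨E, hE, hne, hpE⟩

omit [IsAlgClosed k] in
theorem h0_quotMod_eq (I : X.IdealSheafData) (p : ℕ) :
    (letI : I.subscheme.Over (Spec (CommRingCat.of k)) := ⟨I.subschemeι ≫ (X ↘ Spec (CommRingCat.of k))⟩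
     h k p (Coh.structureModule I.subscheme)) = h k p (ClSub.quotMod I) := by
  haveI := Groth.L21.RR.isNoetherian_of_proper (X := X) k
  letI : I.subscheme.Over (Spec (CommRingCat.of k)) := ⟨I.subschemeι ≫ (X ↘ Spec (CommRingCat.of k))⟩
  haveI : IsLocallyNoetherian I.subscheme := LocallyOfFiniteType.isLocallyNoetherian I.subschemeι
  haveI : X.IsSeparated := ⟨by rw [← Limits.terminal.comp_from (X ↘ Spec (CommRingCat.of k))]; infer_instance⟩
  obtain ⟨e⟩ := Groth.L03.Euler.exists_HH_push_linearEquiv (k := k) I.subschemeι (Coh.structureModule I.subscheme)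
    Groth.L16.CohClosedPush.isCoh_structure.1 rfl p
  exact e.finrank_eq

include hd hgen in
/-- A component is smooth rational iff its first cohomology vanishes. -/
theorem isSmRatComp_iff (C : Set X) (hC : C ∈ irreducibleComponents (X : Type u)) :
    CurvSt.IsSmRatComp k X (X ↘ Spec (CommRingCat.of k)) C ↔
      Subsingleton (Coh.HH (IC C hC).subscheme (Coh.structureModule (IC C hC).subscheme) 1) := by
  haveI := Groth.L21.RR.isNoetherian_of_proper (X := X) k
  haveI := isIntegral_IC C hC
  letI : (IC C hC).subscheme.Over (Spec (CommRingCat.of k)) :=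
    ⟨(IC C hC).subschemeι ≫ (X ↘ Spec (CommRingCat.of k))⟩
  haveI : IsProper ((IC C hC).subscheme ↘ Spec (CommRingCat.of k)) :=
    inferInstanceAs (IsProper ((IC C hC).subschemeι ≫ (X ↘ Spec (CommRingCat.of k))))
  have hr : Set.range (IC C hC).subschemeι = C := by rw [Scheme.IdealSheafData.range_subschemeι, coe_support_IC]
  constructor
  · rintro ⟨-, e, he, heq, hrange⟩
    haveI := he
    haveI : IsIntegral (CohB1.ProjSpace 1 k) := Groth.L16.ProjSpace.isIntegral (n := 1) (R := k)
    have hle : IC C hC ≤ e.ker := fun V r hr' => by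
      rw [Scheme.Hom.ker_apply, RingHom.mem_ker]
      refine (basicOpen_eq_bot_iff _).1 ?_
      rw [← Scheme.preimage_basicOpen]
      refine TopologicalSpace.Opens.ext (Set.eq_empty_iff_forall_notMem.2 fun x hx => ?_)
      have hxV : e x ∈ V.1 := X.basicOpen_le r hx
      have hxC : e x ∈ ((IC C hC).support : Set X) ∩ V.1 :=
        ⟨(coe_support_IC C hC).symm ▸ (hrange ▸ ⟨x, rfl⟩), hxV⟩
      rw [Scheme.IdealSheafData.coe_support_inter] at hxC
      exact (Scheme.mem_zeroLocus_iff _ _ _).1 hxC.1 r hr' hx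
    let r := IsClosedImmersion.lift (IC C hC).subschemeι e (by rwa [Scheme.IdealSheafData.ker_subschemeι])
    have hrfac : r ≫ (IC C hC).subschemeι = e := IsClosedImmersion.lift_fac _ _ _
    haveI : IsClosedImmersion (r ≫ (IC C hC).subschemeι) := by rw [hrfac]; exact he
    haveI : IsClosedImmersion r := IsClosedImmersion.of_comp r (IC C hC).subschemeι
    haveI : Surjective r := ⟨fun y => by
      have hy : (IC C hC).subschemeι y ∈ Set.range e := by
        rw [hrange]; exact hr.subset ⟨y, rfl⟩
      obtain ⟨x, hx⟩ := hy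
      refine ⟨x, (IC C hC).subschemeι.isClosedEmbedding.injective ?_⟩
      rw [← hrfac] at hx
      exact hx⟩
    haveI : IsIso r := isIso_of_isClosedImmersion_of_surjective r
    exact Groth.L21.RR.subsingleton_h1_of_iso k (asIso r).symm (by
      show inv r ≫ CohB1.ProjSpace.toSpec 1 k = (IC C hC).subschemeι ≫ _
      rw [IsIso.inv_comp_eq, ← heq, ← Category.assoc, hrfac])
  · intro h1
    obtain ⟨e, he⟩ := Groth.L21.RR.exists_iso_projLine_of_isAlgClosed (X := (IC C hC).subscheme) k
      (dim_component hd hgen C hC).1 (Groth.L21.RR.h_eq_zero_of_subsingleton k h1)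
    refine ⟨hC, e.inv ≫ (IC C hC).subschemeι, inferInstance, ?_, ?_⟩
    · rw [Category.assoc, Iso.inv_comp_eq]
      exact he.symm
    · rw [Scheme.Hom.comp_base, TopCat.coe_comp, Set.range_comp, Set.range_eq_univ.2 e.inv.surjective,
        Set.image_univ]
      exact hr

include hd hgen in
theorem card_meetPts (hX : Curv2.AtWorstNodal k X) (C : Set X) (hC : C ∈ irreducibleComponents (X : Type u)) :
    (CurvSt.meetPts X C).Finite ∧
      h k 0 (ClSub.quotMod (IC C hC ⊔ IX' C hC)) = (CurvSt.meetPts X C).ncard := by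
  haveI := Groth.L21.RR.isNoetherian_of_proper (X := X) k
  obtain ⟨hr, -, hg⟩ := component hgen C hC
  haveI := hr
  have hJ : Van (IC C hC) C := by
    have h1 := van_of_isReduced hd (IC C hC) hg
    rwa [coe_support_IC] at h1
  have hJ' : Van (IX' C hC) Cᶜ := van_ker_compl hgen C (isClosed_of_mem_irreducibleComponents C hC)
  refine ⟨?_, ?_⟩
  · have hclosed : ∀ p ∈ CurvSt.meetPts X C, IsClosed ({p} : Set X) := by
      rintro p ⟨hp, E, hE, hne, hpE⟩
      by_contra hpn
      -- a non-closed point lies on a single component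
      have key : ∀ E' ∈ irreducibleComponents (X : Type u), p ∈ E' → E' = closure {p} := fun E' hE' hpE' => by
        obtain ⟨η, hη⟩ := QuasiSober.sober hE'.1 (isClosed_of_mem_irreducibleComponents E' hE')
        have hηp : η = p := Groth.L21.RedCurve.maximal_of_not_isClosed hd hpn η (hη.specializes hpE')
        rw [← hη.def, hηp]
      exact hne ((key E hE hpE).trans (key C hC hp).symm)
    rw [meetPts_eq (k := k) C hC] at hclosed ⊢
    have hc := (IC C hC ⊔ IX' C hC).support.isClosed
    have h2 := Groth.L21.RR.Top.finite_of_forall_isClosed (X := X.toTopCat) (U := ⊤)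
      (F := Subtype.val ⁻¹' ((IC C hC ⊔ IX' C hC).support : Set X)) (hc.preimage continuous_subtype_val)
      fun x hx => hclosed x.1 hx
    exact (h2.image Subtype.val).subset fun x hx => ⟨⟨x, trivial⟩, hx, rfl⟩
  · rw [meetPts_eq (k := k) C hC, h0_inter_eq_card hX hd hgen hJ hJ', Nat.card_coe_set_eq]

include hd hgen in
/-- Tails and bridges are the smooth rational components meeting the rest once or twice. -/
theorem tail_bridge_iff (hX : Curv2.AtWorstNodal k X) (C : Set X) (hC : C ∈ irreducibleComponents (X : Type u)) :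
    (Curv2.IsRationalTail X C hC ↔
        CurvSt.IsSmRatComp k X (X ↘ Spec (CommRingCat.of k)) C ∧ (CurvSt.meetPts X C).ncard = 1) ∧
    (Curv2.IsRationalBridge k X C hC ↔
        CurvSt.IsSmRatComp k X (X ↘ Spec (CommRingCat.of k)) C ∧ (CurvSt.meetPts X C).ncard = 2) := by
  haveI := Groth.L21.RR.isNoetherian_of_proper (X := X) k
  haveI := isIntegral_IC C hC
  obtain ⟨hr, hconn, -⟩ := component hgen C hC
  haveI := hr
  haveI := hconn
  letI : (IC C hC).subscheme.Over (Spec (CommRingCat.of k)) :=
    ⟨(IC C hC).subschemeι ≫ (X ↘ Spec (CommRingCat.of k))⟩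
  haveI : IsProper ((IC C hC).subscheme ↘ Spec (CommRingCat.of k)) :=
    inferInstanceAs (IsProper ((IC C hC).subschemeι ≫ (X ↘ Spec (CommRingCat.of k))))
  have h0C : h k 0 (Coh.structureModule (IC C hC).subscheme) = 1 := h0_eq_one_of_connected
  have h0q : h k 0 (ClSub.quotMod (IC C hC)) = 1 := (h0_quotMod_eq (IC C hC) 0).symm.trans h0C
  obtain ⟨hfin, hcard⟩ := card_meetPts hd hgen hX C hC
  have hne : ∀ n, (CurvSt.meetPts X C).ncard = n + 1 → ((IX' C hC).support : Set X).Nonempty := fun n hn => by
    obtain ⟨p, hp⟩ := Set.nonempty_of_ncard_ne_zero (s := CurvSt.meetPts X C) (by omega)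
    rw [meetPts_eq (k := k) C hC, Scheme.IdealSheafData.support_sup, TopologicalSpace.Closeds.coe_inf] at hp
    exact ⟨p, hp.2⟩
  refine ⟨⟨fun hT => ⟨(isSmRatComp_iff hd hgen C hC).2 hT.2.2.2.2.2,
    hcard.symm.trans ((h0_inter_of_tail (k := k) hT).trans h0q)⟩, fun hS => ?_⟩, ⟨fun hB => ?_, fun hS => ?_⟩⟩
  · obtain ⟨hsm, h1⟩ := hS
    obtain ⟨p, hp⟩ := Set.ncard_eq_one.1 h1
    rw [meetPts_eq (k := k) C hC] at hp
    let K := IC C hC ⊔ IX' C hC
    have hrange : Set.range K.subschemeι = {p} := by rw [Scheme.IdealSheafData.range_subschemeι]; exact hp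
    haveI hN : Nonempty K.subscheme := by
      obtain ⟨y, -⟩ : p ∈ Set.range K.subschemeι := hrange ▸ rfl
      exact ⟨y⟩
    haveI hS : Subsingleton K.subscheme := ⟨fun a b => K.subschemeι.isClosedEmbedding.injective (by
      have ha : K.subschemeι a ∈ ({p} : Set X) := hrange ▸ ⟨a, rfl⟩
      have hb : K.subschemeι b ∈ ({p} : Set X) := hrange ▸ ⟨b, rfl⟩
      exact ha.trans hb.symm)⟩
    letI : K.subscheme.Over (Spec (CommRingCat.of k)) := ⟨K.subschemeι ≫ (X ↘ Spec (CommRingCat.of k))⟩
    haveI : IsProper (K.subscheme ↘ Spec (CommRingCat.of k)) :=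
      inferInstanceAs (IsProper (K.subschemeι ≫ (X ↘ Spec (CommRingCat.of k))))
    have hK0 : h k 0 (Coh.structureModule K.subscheme) = 1 :=
      (h0_quotMod_eq K 0).trans (hcard.trans h1)
    obtain ⟨y⟩ := hN
    haveI : IsAffine K.subscheme := by
      obtain ⟨_, ⟨U, hU, rfl⟩, hx, -⟩ :=
        K.subscheme.isBasis_affineOpens.exists_subset_of_mem_open (Set.mem_univ y) isOpen_univ
      have hUtop : U = ⊤ := top_le_iff.1 fun c _ => by
        rw [Subsingleton.elim c y]
        exact hx
      haveI : IsAffine (⊤ : K.subscheme.Opens).toScheme := hUtop ▸ hU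
      exact IsAffine.of_isIso K.subscheme.topIso.inv
    haveI : Nonempty ((⊤ : K.subscheme.Opens) : Scheme) := ⟨⟨y, trivial⟩⟩
    have hne1 : (e0 (Coh.structureModule K.subscheme)).symm (Groth.L21.RR.oneSec K.subscheme) ≠ 0 := fun h => by
      have h1 : Groth.L21.RR.oneSec K.subscheme = 0 := (e0 _).symm.injective (h.trans (map_zero _).symm)
      exact one_ne_zero (α := Γ(K.subscheme, ⊤)) h1
    have hcst : ∀ c : Γ(K.subscheme, ⊤), ∃ d : k, Groth.L21.RR.cst (X := K.subscheme) k d = c := fun c => by
      obtain ⟨d, hd'⟩ := exists_smul_eq_of_finrank_eq_one hK0 hne1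
        ((e0 (Coh.structureModule K.subscheme)).symm c)
      refine ⟨d, ?_⟩
      have h := congrArg (e0 (Coh.structureModule K.subscheme)) hd'
      rw [Groth.L21.RR.e0_smul, AddEquiv.apply_symm_apply, AddEquiv.apply_symm_apply] at h
      exact (mul_one (Groth.L21.RR.cst (X := K.subscheme) k d)).symm.trans h
    haveI hredK : AlgebraicGeometry.IsReduced K.subscheme := by
      haveI : _root_.IsReduced Γ(K.subscheme, ⊤) := ⟨fun c hc => by
        obtain ⟨d, rfl⟩ := hcst c
        by_cases hd0 : d = 0
        · exact hd0 ▸ map_zero (Coh.toGlobal (K.subscheme ↘ Spec (CommRingCat.of k)))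
        · haveI : Nontrivial (Coh.Γtop K.subscheme) := inferInstanceAs (Nontrivial Γ(K.subscheme, ⊤))
          exact absurd hc (((Ne.isUnit hd0).map (Coh.toGlobal (K.subscheme ↘ Spec (CommRingCat.of k)))).not_isNilpotent)⟩
      exact AlgebraicGeometry.isReduced_of_isAffine_isReduced K.subscheme
    refine ⟨hne 0 h1, ⟨y⟩, hS, hredK, fun c => ?_, (isSmRatComp_iff hd hgen C hC).1 hsm⟩
    let z := (Scheme.IdealSheafData.inclusion (le_sup_left : IC C hC ≤ K)).base c
    have hzp : (IC C hC).subschemeι z = p := by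
      have hfac := Scheme.IdealSheafData.inclusion_subschemeι (le_sup_left : IC C hC ≤ K)
      have h2 : K.subschemeι c ∈ ({p} : Set X) := hrange ▸ ⟨c, rfl⟩
      rw [← hfac] at h2
      exact h2
    have hzc : IsClosed ({z} : Set (IC C hC).subscheme) := by
      have hpc : IsClosed ({p} : Set X) := hrange ▸ K.subschemeι.isClosedEmbedding.isClosed_range
      have := hpc.preimage (IC C hC).subschemeι.continuous
      rwa [← hzp, ← Set.image_singleton, Set.preimage_image_eq _ (IC C hC).subschemeι.isClosedEmbedding.injective]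
        at this
    refine ⟨?_, fun a => ?_⟩
    · rw [injective_iff_map_eq_zero]
      intro a ha
      obtain ⟨d, rfl⟩ := Groth.L21.RR.exists_cst_eq k h0C a
      by_cases hd0 : d = 0
      · exact hd0 ▸ map_zero (Coh.toGlobal ((IC C hC).subscheme ↘ Spec (CommRingCat.of k)))
      · exact absurd ha ((((Ne.isUnit hd0).map (Coh.toGlobal ((IC C hC).subscheme ↘ Spec (CommRingCat.of k)))).map
          ((IC C hC).subscheme.evaluation ⊤ z trivial).hom).ne_zero)
    · obtain ⟨r, rfl⟩ := IsLocalRing.residue_surjective a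
      obtain ⟨d, hd'⟩ := Groth.L21.RR.isRat_of_isClosed (X := (IC C hC).subscheme) k hzc r
      refine ⟨Groth.L21.RR.cst (X := (IC C hC).subscheme) k d, ?_⟩
      exact (Ideal.Quotient.eq.2 hd').symm
  · obtain ⟨-, h2, hh1⟩ := hB
    change h k 0 (ClSub.quotMod (IC C hC ⊔ IX' C hC)) = 2 * h k 0 (ClSub.quotMod (IC C hC)) at h2
    exact ⟨(isSmRatComp_iff hd hgen C hC).2 hh1, by omega⟩
  · obtain ⟨hsm, h2⟩ := hS
    refine ⟨hne 1 h2, ?_, (isSmRatComp_iff hd hgen C hC).1 hsm⟩
    show h k 0 (ClSub.quotMod (IC C hC ⊔ IX' C hC)) = 2 * h k 0 (ClSub.quotMod (IC C hC))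
    omega

include hd hgen in
/-- With genus at least one, every smooth rational component meets the rest. -/
theorem meetPts_nonempty [ConnectedSpace X] (C : Set X) (hC : C ∈ irreducibleComponents (X : Type u))
    (hsm : CurvSt.IsSmRatComp k X (X ↘ Spec (CommRingCat.of k)) C) (hg : Curv2.genus k X ≠ 0) :
    (CurvSt.meetPts X C).Nonempty := by
  haveI := Groth.L21.RR.isNoetherian_of_proper (X := X) k
  by_contra hem
  rw [Set.not_nonempty_iff_eq_empty, meetPts_eq (k := k) C hC, Scheme.IdealSheafData.support_sup,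
    TopologicalSpace.Closeds.coe_inf, coe_support_IC, coe_support_IX' (k := k)] at hem
  have hclC := isClosed_of_mem_irreducibleComponents C hC
  have hopen : IsOpen C := by
    have heq : C = (closure Cᶜ)ᶜ := by
      refine subset_antisymm (fun x hx hx' => ?_) (Set.compl_subset_comm.1 subset_closure)
      exact Set.eq_empty_iff_forall_notMem.1 hem x ⟨hx, hx'⟩
    rw [heq]
    exact isClosed_closure.isOpen_compl
  have huniv : C = Set.univ := (IsClopen.eq_univ ⟨hclC, hopen⟩ hC.1.nonempty)
  obtain ⟨hr, -, hg'⟩ := component hgen C hC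
  haveI := hr
  have hJ : Van (IC C hC) C := by
    have h1 := van_of_isReduced hd (IC C hC) hg'
    rwa [coe_support_IC] at h1
  refine hg ?_
  rw [Curv2.genus]
  change h k 1 (Coh.structureModule X) = 0
  rw [← h_quotMod_of_univ (k := k) hd hgen (IC C hC) hJ huniv 1, ← h0_quotMod_eq (IC C hC) 1]
  letI : (IC C hC).subscheme.Over (Spec (CommRingCat.of k)) :=
    ⟨(IC C hC).subschemeι ≫ (X ↘ Spec (CommRingCat.of k))⟩
  haveI := (isSmRatComp_iff hd hgen C hC).1 hsm
  exact Module.finrank_zero_of_subsingleton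

end Groth.L21.CurveAdj
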