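import Groth.Agent.L21.CurveAdj.PointedVA
import Groth.Agent.L21.RedCurve.Points
import Groth.Agent.L21.CurveDual.Euler

/-!
Vanishing on curves of arithmetic genus zero.
-/

set_option autoImplicit false
set_option backward.isDefEq.respectTransparency false
set_option backward.isDefEq.respectTransparency.types false
set_option linter.style.haveILetI false
universe u

open CategoryTheory CategoryTheory.Limits AlgebraicGeometry Opposite TopologicalSpace

noncomputable section

namespace Groth.L21.CurveAdj

open Groth.L21.RR (h finite_HH')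
open Groth.L21.CurveGor (Setup)
open Groth.L00.Tensor (tensorComm)

section Dual

variable {k : Type u} [Field k] {X : Scheme.{u}} [X.Over (Spec (CommRingCat.of k))]
  [IsProper (X ↘ Spec (CommRingCat.of k))]

/-- An invertible module whose dual twist has no `H¹` has no sections. -/
theorem subsingleton_h0_of_dual {ω : X.Modules} {t : Coh.HH X ω 1 →ₗ[k] k}
    (hω : Canon.IsRDualOver k X 1 ω t) (hinv : PicF.IsInvertible ω) {L L' M : X.Modules}
    (e : CohB1.tensorMod L L' ≅ Coh.structureModule X) (hM : M ≅ CohB1.tensorMod ω L') (hMc : Coh.IsQCoh M)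
    (h1 : Subsingleton (Coh.HH X M 1)) : Subsingleton (Coh.HH X L 0) := by
  have hz := (Groth.L21.CurveDual.subsingleton_h1_iff hω hMc).1 h1
  obtain ⟨ω', -, ⟨eω⟩⟩ := Groth.L08.Cube.exists_inverse hinv
  let E := Groth.L21.Bundle.twistEquiv (L := L') (L' := L) e
  let Eω := Groth.L21.Bundle.twistEquiv (L := ω) (L' := ω') (tensorComm _ _ ≪≫ eω)
  haveI : Subsingleton (ω ⟶ CohB1.tensorMod ω L) := by
    haveI : Subsingleton (CohB1.tensorMod ω L' ⟶ ω) := subsingleton_of_forall_eq 0 fun ψ => by
      rw [← cancel_epi hM.hom, comp_zero]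
      exact hz _
    haveI : Subsingleton (E.functor.obj ω ⟶ ω) := this
    exact (E.toAdjunction.homEquiv ω ω).symm.subsingleton
  haveI : Subsingleton (Coh.structureModule X ⟶ L) := by
    let u : (Coh.structureModule X ⟶ L) → (ω ⟶ CohB1.tensorMod ω L) := fun s =>
      (Groth.L00.Tensor.tensorUnitLeft ω).inv ≫ Eω.functor.map s ≫ (tensorComm L ω).hom
    refine (Function.Injective.subsingleton (f := u) fun a b hab => Eω.functor.map_injective ?_)
    exact (cancel_mono (tensorComm L ω).hom).1 ((cancel_epi (Groth.L00.Tensor.tensorUnitLeft ω).inv).1 hab)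
  exact (LinearEquiv.ofBijective _ (Groth.L21.CurveDual.homH0_bijective (k := k) L)).symm.toEquiv.subsingleton

end Dual

variable {k : Type u} [Field k] [IsAlgClosed k] {X : Scheme.{u}} [X.Over (Spec (CommRingCat.of k))]
  [IsProper (X ↘ Spec (CommRingCat.of k))] [AlgebraicGeometry.IsReduced X] [ConnectedSpace X]
  (hX : Curv2.AtWorstNodal k X) {ω : X.Modules} {t : Coh.HH X ω 1 →ₗ[k] k} (S : Setup k X ω t)
  (hgenX : ∀ z : X, ∃ w, ¬ IsClosed ({w} : Set X) ∧ w ⤳ z) (hinv : PicF.IsInvertible ω)

include hX S hgenX hinv in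
/-- Euler characteristic, number of meeting points and dualizing degree of a subcurve. -/
theorem subcurve_card (J : X.IdealSheafData) [AlgebraicGeometry.IsReduced J.subscheme]
    [ConnectedSpace J.subscheme] (hdim : topologicalKrullDim J.subscheme = 1) :
    ∃ a : ℕ, a ≤ Curv2.genus k X ∧
      @Curv2.euler k _ J.subscheme ⟨J.subschemeι ≫ (X ↘ Spec (CommRingCat.of k))⟩
        (Coh.structureModule J.subscheme) = 1 - (a : ℤ) ∧
      degOn k ω J = 2 * (a : ℤ) - 2 + ((J.support : Set X) ∩ closure ((J.support : Set X)ᶜ)).ncard := by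
  haveI := Groth.L21.RR.isNoetherian_of_proper (X := X) k
  have hgJ := gen_of_dim_one J hdim
  obtain ⟨a, m, ha, he, hm, hw, -⟩ := subcurve_data S hgenX hinv J hdim
  have hcard := h0_inter_eq_card (k := k) hX S.hd hgenX (van_of_isReduced S.hd J hgJ)
    (van_ker_compl hgenX _ J.support.isClosed)
  have hs : ((J ⊔ compl J).support : Set X) = (J.support : Set X) ∩ closure ((J.support : Set X)ᶜ) := by
    rw [Scheme.IdealSheafData.support_sup, TopologicalSpace.Closeds.coe_inf, Scheme.Hom.support_ker,
      Scheme.Opens.range_ι]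
    rfl
  rw [complV_eq_compl S.hd hgenX J] at hm
  refine ⟨a, ha ▸ Groth.L21.RedCurve.Pts.h1_subscheme_le S.hd J, he, ?_⟩
  have h1 : m = ((J.support : Set X) ∩ closure ((J.support : Set X)ᶜ)).ncard := by
    rw [← hm, ← hs]
    exact hcard
  rw [hw, h1]

include hX S hgenX hinv in
/-- In genus zero: no sections when the degrees are small enough on the components. -/
theorem subsingleton_h0_of_tree (hg : Curv2.genus k X = 0) {L : X.Modules} (hL : PicF.IsInvertible L)
    (E₀ : Set X)
    (h₀ : ∀ hE₀ : E₀ ∈ irreducibleComponents (X : Type u),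
      degOn k L (IC E₀ hE₀) ≤ ((E₀ ∩ closure E₀ᶜ).ncard : ℤ) - 1)
    (hE : ∀ (E : Set X) (hE : E ∈ irreducibleComponents (X : Type u)), E ≠ E₀ →
      degOn k L (IC E hE) ≤ ((E ∩ closure Eᶜ).ncard : ℤ) - 2) : Subsingleton (Coh.HH X L 0) := by
  classical
  haveI := Groth.L21.RR.isNoetherian_of_proper (X := X) k
  obtain ⟨L', hL', ⟨e⟩⟩ := Groth.L08.Cube.exists_inverse hL
  let M := CohB1.tensorMod ω L'
  have hM : PicF.IsInvertible M := Groth.L18.GenLoc.isInvertible_tensor hinv hL'
  have hMdeg : ∀ J, degOn k M J = degOn k ω J - degOn k L J := fun J => by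
    have h1 := degOn_congr (k := k) e J
    rw [degOn_tensor S.hd hL hL' J] at h1
    rw [degOn_tensor S.hd hinv hL' J]
    have h0 : degOn k (Coh.structureModule X) J = 0 := by
      have := degOn_pow (k := k) S.hd hL J 0
      rw [Nat.cast_zero, zero_mul] at this
      exact this
    linarith
  have hcomp : ∀ (E : Set X) (hEC : E ∈ irreducibleComponents (X : Type u)),
      (if E = E₀ then (-1 : ℤ) else 0) ≤ degOn k M (IC E hEC) := by
    intro E hEC
    obtain ⟨hr, hc, -⟩ := component hgenX E hEC
    haveI := hr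
    haveI := hc
    obtain ⟨a, ha, -, hw⟩ := subcurve_card hX S hgenX hinv (IC E hEC) (dim_component S.hd hgenX E hEC).1
    rw [hg, Nat.le_zero] at ha
    rw [coe_support_IC, ha] at hw
    rw [hMdeg, hw]
    split_ifs with h
    · subst h
      have := h₀ hEC
      simp only [Nat.cast_zero, mul_zero, zero_sub]
      linarith
    · have := hE E hEC h
      simp only [Nat.cast_zero, mul_zero, zero_sub]
      linarith
  refine subsingleton_h0_of_dual S.hω hinv e (Iso.refl M)
    (Groth.L16.ProperFinite.isCoh_of_isInvertible hM).1 (subsingleton_h1_of_euler_lt (k := k) S.hd hM ?_)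
  intro J hred hconn hdim
  haveI := hred
  haveI := hconn
  obtain ⟨a, ha, he, -⟩ := subcurve_card hX S hgenX hinv J hdim
  rw [hg, Nat.le_zero] at ha
  rw [he, ha]
  let N := (Groth.L22.CurveDeg.finite_nonclosed S.hd).toFinset
  have hN : ∀ x, x ∈ N ↔ ¬ IsClosed ({x} : Set X) := fun x => Set.Finite.mem_toFinset _
  rw [degOn_eq_sum S.hd hgenX hM (van_of_isReduced S.hd J (gen_of_dim_one J hdim)) N hN]
  refine lt_of_lt_of_le ?_ (Finset.sum_le_sum (f := fun y => if closure {y} = E₀ then (-1 : ℤ) else 0)
    fun y hy => hcomp (closure {y}) (closure_mem_components S.hd ((hN y).1 (Finset.mem_filter.1 hy).1)))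
  have hle : ((N.filter fun y => y ∈ (J.support : Set X)).filter fun y => closure {y} = E₀).card ≤ 1 := by
    refine Finset.card_le_one.2 fun y hy y' hy' => ?_
    have h' : closure {y} = closure {y'} := (Finset.mem_filter.1 hy).2.trans (Finset.mem_filter.1 hy').2.symm
    exact ((specializes_iff_closure_subset.2 h'.ge).antisymm (specializes_iff_closure_subset.2 h'.le)).eq
  rw [Finset.sum_ite, Finset.sum_const_zero, add_zero, Finset.sum_const, nsmul_eq_mul]
  simp only [Nat.cast_zero, sub_zero]
  have : ((((N.filter fun y => y ∈ (J.support : Set X)).filter fun y => closure {y} = E₀).card : ℕ) : ℤ) ≤ 1 := by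
    exact_mod_cast hle
  linarith

end Groth.L21.CurveAdj
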