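import Groth.Agent.L21.RedCurve.Basic
import Groth.Agent.L21.RR.PointPow
import Groth.Agent.L21.RR.Twist
import Groth.Agent.L22.CurveDeg.Devissage

/-!
Ideals of unions of components of a reduced curve, stalk by stalk.
-/

set_option autoImplicit false
set_option backward.isDefEq.respectTransparency false
set_option linter.style.haveILetI false
universe u

open CategoryTheory CategoryTheory.Limits AlgebraicGeometry Opposite TopologicalSpace

noncomputable section

namespace Groth.L21.CurveAdj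

open Groth.L21.RR (st one bijective_smul_one range_st_idealModι)

variable {X : Scheme.{u}}

/-- The stalk of an ideal sheaf inside the local ring. -/
def stI (J : X.IdealSheafData) (x : X) : Ideal (X.presheaf.stalk x) :=
  (LinearMap.range (st (ClSub.idealModι J) x)).comap
    (LinearMap.toSpanSingleton (X.presheaf.stalk x) ((Coh.structureModule X).presheaf.stalk x) (one X x))

theorem stI_eq_map (J : X.IdealSheafData) {x : X} {V : X.Opens} (hV : IsAffineOpen V) (hxV : x ∈ V) :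
    stI J x = (J.ideal ⟨V, hV⟩).map (X.presheaf.germ V x hxV).hom := by
  ext r
  refine ⟨fun hr => ?_, fun hr => ?_⟩
  · obtain ⟨r', hr', he⟩ := (range_st_idealModι J hV hxV _).1 (LinearMap.mem_range.1 hr)
    rwa [show r' = r from (bijective_smul_one x).1 he] at hr'
  · exact LinearMap.mem_range.2 ((range_st_idealModι J hV hxV _).2 ⟨r, hr, rfl⟩)

theorem stI_sup (I J : X.IdealSheafData) (x : X) : stI (I ⊔ J) x = stI I x ⊔ stI J x := by
  obtain ⟨V, hV, hxV, -⟩ := exists_isAffineOpen_mem_and_subset (x := x) (U := ⊤) trivial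
  rw [stI_eq_map _ hV hxV, stI_eq_map _ hV hxV, stI_eq_map _ hV hxV, ← Ideal.map_sup]
  rfl

/-- `J` consists of the functions vanishing at the non-closed points of `A`. -/
def Van (J : X.IdealSheafData) (A : Set X) : Prop :=
  ∀ (V : X.Opens) (hV : IsAffineOpen V) (r : Γ(X, V)), r ∈ J.ideal ⟨V, hV⟩ ↔
    ∀ (w : X) (hw : w ∈ V), ¬ IsClosed ({w} : Set X) → w ∈ A → X.presheaf.germ V w hw r = 0

variable [AlgebraicGeometry.IsNoetherian X] [AlgebraicGeometry.IsReduced X]

theorem germ_eq_zero_iff (hd : topologicalKrullDim X ≤ 1) {V : X.Opens} {w : X} (hw : w ∈ V)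
    (hwn : ¬ IsClosed ({w} : Set X)) (r : Γ(X, V)) :
    X.presheaf.germ V w hw r = 0 ↔ w ∉ X.basicOpen r := by
  rw [X.mem_basicOpen r w hw]
  constructor
  · intro h hu
    rw [h] at hu
    exact not_isUnit_zero hu
  · intro h
    by_contra hne
    obtain ⟨c, hc⟩ := (Groth.L21.RedCurve.stalk_isField hd hwn).mul_inv_cancel hne
    exact h (IsUnit.of_mul_eq_one c hc)

/-- Reduced closed subschemes without isolated points. -/
theorem van_of_isReduced (hd : topologicalKrullDim X ≤ 1) (J : X.IdealSheafData)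
    [AlgebraicGeometry.IsReduced J.subscheme]
    (hgen : ∀ y ∈ (J.support : Set X), ∃ w ∈ (J.support : Set X), ¬ IsClosed ({w} : Set X) ∧ w ⤳ y) :
    Van J (J.support : Set X) := by
  intro V hV r
  have hrad : (J.ideal ⟨V, hV⟩).IsRadical := by
    rw [← Scheme.IdealSheafData.ker_subschemeι_app J ⟨V, hV⟩]
    rintro a ⟨n, hn⟩
    rw [RingHom.mem_ker, map_pow] at hn
    exact RingHom.mem_ker.2 (_root_.IsReduced.eq_zero _ ⟨n, hn⟩)
  have hval : J.ideal ⟨V, hV⟩ = (Scheme.IdealSheafData.vanishingIdeal J.support).ideal ⟨V, hV⟩ := by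
    rw [Scheme.IdealSheafData.vanishingIdeal_support]
    exact hrad.radical.symm
  have hmem : ∀ {y : X} (hy : y ∈ V), y ∉ X.basicOpen r ↔ r ∈ (hV.primeIdealOf ⟨y, hy⟩).asIdeal := by
    intro y hy
    letI := X.presheaf.algebra_section_stalk (⟨y, hy⟩ : V)
    haveI := hV.isLocalization_stalk ⟨y, hy⟩
    rw [X.mem_basicOpen r y hy]
    exact (IsLocalization.AtPrime.isUnit_to_map_iff (X.presheaf.stalk y) (hV.primeIdealOf ⟨y, hy⟩).asIdeal r).not.trans
      not_not
  rw [hval, Scheme.IdealSheafData.vanishingIdeal_ideal, PrimeSpectrum.mem_vanishingIdeal]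
  constructor
  · intro h w hw hwn hwA
    rw [germ_eq_zero_iff hd hw hwn, hmem hw]
    refine h _ ?_
    show hV.fromSpec (hV.primeIdealOf ⟨w, hw⟩) ∈ (J.support : Set X)
    rw [hV.fromSpec_primeIdealOf]
    exact hwA
  · intro h q hq
    have hy : hV.fromSpec q ∈ V := by
      have : hV.fromSpec q ∈ Set.range hV.fromSpec := ⟨q, rfl⟩
      rwa [hV.range_fromSpec] at this
    obtain ⟨w, hwA, hwn, hwy⟩ := hgen _ hq
    have hwV : w ∈ V := hwy.mem_open V.2 hy
    have h1 := (germ_eq_zero_iff hd hwV hwn r).1 (h w hwV hwn hwA)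
    have h2 : hV.fromSpec q ∉ X.basicOpen r := fun hyb => h1 (hwy.mem_open (X.basicOpen r).2 hyb)
    have h3 : hV.primeIdealOf ⟨hV.fromSpec q, hy⟩ = q :=
      hV.fromSpec.isOpenEmbedding.injective (hV.fromSpec_primeIdealOf _)
    rw [hmem hy, h3] at h2
    exact h2

/-- The closure of the complement of a closed set. -/
theorem van_ker_compl (hgen : ∀ z : X, ∃ w, ¬ IsClosed ({w} : Set X) ∧ w ⤳ z) (C : Set X) (hC : IsClosed C) :
    Van (Scheme.Opens.ι (⟨Cᶜ, hC.isOpen_compl⟩ : X.Opens)).ker Cᶜ := by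
  intro V hV r
  let U : X.Opens := ⟨Cᶜ, hC.isOpen_compl⟩
  rw [Scheme.Hom.ker_apply, RingHom.mem_ker]
  have hle : U.ι ''ᵁ (U.ι ⁻¹ᵁ V) ≤ V := U.ι.image_preimage_le V
  change X.presheaf.map (homOfLE hle).op r = 0 ↔ _
  constructor
  · intro h w hw hwn hwU
    have hw' : w ∈ U.ι ''ᵁ (U.ι ⁻¹ᵁ V) := ⟨⟨w, hwU⟩, hw, rfl⟩
    rw [← X.presheaf.germ_res_apply (homOfLE hle) w hw' r]
    exact (congrArg _ h).trans (map_zero _)
  · intro h
    refine Groth.L21.RedCurve.section_eq_zero hgen _ fun w hw hwn => ?_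
    have hwU : w ∈ U := by
      obtain ⟨a, -, rfl⟩ := hw
      exact a.2
    rw [X.presheaf.germ_res_apply (homOfLE hle) w hw r]
    exact h w (hle hw) hwn hwU

/-- The stalks. -/
theorem Van.mem_stI_iff (hd : topologicalKrullDim X ≤ 1) {J : X.IdealSheafData} {A : Set X} (hJ : Van J A) {x : X}
    (a : X.presheaf.stalk x) :
    a ∈ stI J x ↔ ∀ (w : X) (h : w ⤳ x), ¬ IsClosed ({w} : Set X) → w ∈ A →
      X.presheaf.stalkSpecializes h a = 0 := by
  obtain ⟨W, hxW, s, rfl⟩ := TopCat.Presheaf.exists_germ_eq X.presheaf a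
  let E : Set X := {w | ¬ IsClosed ({w} : Set X) ∧ ¬ w ⤳ x}
  have hE : E.Finite := (Groth.L22.CurveDeg.finite_nonclosed hd).subset fun w hw => hw.1
  let Z : Set X := ⋃ w ∈ E, closure {w}
  have hZ : IsClosed Z := hE.isClosed_biUnion fun w _ => isClosed_closure
  have hxZ : x ∈ (W : Set X) ∩ Zᶜ := ⟨hxW, fun h => by
    obtain ⟨w, hw, hxw⟩ := Set.mem_iUnion₂.1 h
    exact hw.2 (specializes_iff_mem_closure.2 hxw)⟩
  obtain ⟨V, hV, hxV, hVW⟩ := exists_isAffineOpen_mem_and_subset (x := x)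
    (U := ⟨(W : Set X) ∩ Zᶜ, W.2.inter hZ.isOpen_compl⟩) hxZ
  have hle : V ≤ W := fun z hz => (hVW hz).1
  have hsp : ∀ w ∈ V, ¬ IsClosed ({w} : Set X) → w ⤳ x := fun w hw hwn => by
    by_contra h
    exact (hVW hw).2 (Set.mem_biUnion (show w ∈ E from ⟨hwn, h⟩) (subset_closure rfl))
  rw [← X.presheaf.germ_res_apply (homOfLE hle) x hxV s, stI_eq_map J hV hxV]
  set r := X.presheaf.map (homOfLE hle).op s with hr
  constructor
  · intro h w hwx hwn hwA
    letI := X.presheaf.algebra_section_stalk (⟨x, hxV⟩ : V)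
    haveI := hV.isLocalization_stalk ⟨x, hxV⟩
    obtain ⟨⟨⟨i, hi⟩, t⟩, he⟩ :=
      (IsLocalization.mem_map_algebraMap_iff (hV.primeIdealOf ⟨x, hxV⟩).asIdeal.primeCompl (X.presheaf.stalk x)).1 h
    have h1 := congrArg (X.presheaf.stalkSpecializes hwx).hom he
    rw [map_mul] at h1
    have hwV : w ∈ V := hwx.mem_open V.2 hxV
    have e1 : (X.presheaf.stalkSpecializes hwx).hom (algebraMap Γ(X, V) (X.presheaf.stalk x) i) = 0 := by
      change X.presheaf.stalkSpecializes hwx (X.presheaf.germ V x hxV i) = 0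
      rw [TopCat.Presheaf.germ_stalkSpecializes_apply]
      exact (hJ V hV i).1 hi w hwV hwn hwA
    rw [e1] at h1
    have ht : IsUnit ((X.presheaf.stalkSpecializes hwx).hom (algebraMap Γ(X, V) (X.presheaf.stalk x) t)) :=
      (IsLocalization.map_units (X.presheaf.stalk x) t).map _
    exact ht.mul_left_eq_zero.1 h1
  · intro h
    refine Ideal.mem_map_of_mem _ ((hJ V hV r).2 fun w hw hwn hwA => ?_)
    have h1 := h w (hsp w hw hwn) hwn hwA
    rwa [TopCat.Presheaf.germ_stalkSpecializes_apply] at h1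

/-- An element of a stalk of a reduced curve vanishing at all generic points vanishes. -/
theorem stalk_eq_zero (hd : topologicalKrullDim X ≤ 1) (hgen : ∀ z : X, ∃ w, ¬ IsClosed ({w} : Set X) ∧ w ⤳ z)
    {x : X} (a : X.presheaf.stalk x)
    (ha : ∀ (w : X) (h : w ⤳ x), ¬ IsClosed ({w} : Set X) → X.presheaf.stalkSpecializes h a = 0) : a = 0 := by
  obtain ⟨W, hxW, s, rfl⟩ := TopCat.Presheaf.exists_germ_eq X.presheaf a
  let E : Set X := {w | ¬ IsClosed ({w} : Set X) ∧ ¬ w ⤳ x}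
  have hE : E.Finite := (Groth.L22.CurveDeg.finite_nonclosed hd).subset fun w hw => hw.1
  let Z : Set X := ⋃ w ∈ E, closure {w}
  have hZ : IsClosed Z := hE.isClosed_biUnion fun w _ => isClosed_closure
  let W' : X.Opens := ⟨(W : Set X) ∩ Zᶜ, W.2.inter hZ.isOpen_compl⟩
  have hxW' : x ∈ W' := ⟨hxW, fun h => by
    obtain ⟨w, hw, hxw⟩ := Set.mem_iUnion₂.1 h
    exact hw.2 (specializes_iff_mem_closure.2 hxw)⟩
  have hle : W' ≤ W := fun z hz => hz.1
  rw [← X.presheaf.germ_res_apply (homOfLE hle) x hxW' s,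
    Groth.L21.RedCurve.section_eq_zero hgen (X.presheaf.map (homOfLE hle).op s) fun w hw hwn => ?_, map_zero]
  have hwx : w ⤳ x := by
    by_contra h
    exact hw.2 (Set.mem_biUnion (show w ∈ E from ⟨hwn, h⟩) (subset_closure rfl))
  have h1 := ha w hwx hwn
  rwa [TopCat.Presheaf.germ_stalkSpecializes_apply, ← X.presheaf.germ_res_apply (homOfLE hle) w hw s] at h1

end Groth.L21.CurveAdj
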